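import Groth.Agent.CohDer1.NoMu.DerQuot
import Groth.Agent.HopfQuot.UnipotentBaseChange
import Mathlib.Algebra.CharP.Lemmas

/-!
# Derivations under base change
-/

set_option autoImplicit false

noncomputable section

open TensorProduct HopfRep
open Groth.Agent.HopfLib Groth.Agent.HopfQuot
open Coalgebra (comul counit)

universe u

namespace Groth.Agent.CohDer1.NoMu

variable {k : Type u} [Field k] {A : Type u} [CommRing A] [HopfAlgebra k A]

/-- Derivations at the counit lower a common series of subspaces. -/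
theorem exists_series (h : NilDer k A) (V : Type u) [AddCommGroup V] [Module k V] [Comod k A V]
    [Module.Finite k V] :
    ∃ G : ℕ → Submodule k V, G 0 = ⊤ ∧ (∃ N, G N = ⊥) ∧
      ∀ f : A →ₗ[k] k, IsEpsDer f → ∀ j, ∀ x ∈ G j, hit f x ∈ G (j + 1) := by
  classical
  letI : LieRing (Module.End k V) := LieRing.ofAssociativeRing
  letI : LieAlgebra k (Module.End k V) := LieAlgebra.ofAssociativeAlgebra
  let L : LieSubalgebra k (Module.End k V) :=
    { carrier := {T | ∃ f : A →ₗ[k] k, IsEpsDer f ∧ T = hit (V := V) f}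
      add_mem' := by
        rintro _ _ ⟨f, hf, rfl⟩ ⟨g, hg, rfl⟩
        exact ⟨f + g, hf.add hg, LinearMap.ext fun x => (hit_add f g x).symm⟩
      zero_mem' := ⟨0, isEpsDer_zero, LinearMap.ext fun x => (hit_zero (A := A) x).symm⟩
      smul_mem' := by
        rintro c _ ⟨f, hf, rfl⟩
        exact ⟨c • f, hf.smul c, LinearMap.ext fun x => (hit_smul c f x).symm⟩
      lie_mem' := by
        rintro _ _ ⟨f, hf, rfl⟩ ⟨g, hg, rfl⟩
        refine ⟨formMul f g - formMul g f, hf.bracket hg, LinearMap.ext fun x => ?_⟩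
        rw [hit_sub, ← hit_hit, ← hit_hit]
        rfl }
  haveI : LieModule.IsNilpotent L V := by
    refine (LieModule.isNilpotent_iff_forall (R := k)).2 fun T => ?_
    obtain ⟨f, hf, hT⟩ := T.2
    have : LieModule.toEnd k L V T = hit (V := V) f := LinearMap.ext fun x => by
      show (T : Module.End k V) x = _
      rw [hT]
    rw [this]
    exact h.isNilpotent hf
  obtain ⟨N, hN⟩ := (LieModule.isNilpotent_iff k L V).1 inferInstance
  refine ⟨fun j => (LieModule.lowerCentralSeries k L V j).toSubmodule, ?_, ⟨N, ?_⟩, fun f hf j x hx => ?_⟩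
  · simp
  · simp [hN]
  · show hit f x ∈ LieModule.lowerCentralSeries k L V (j + 1)
    rw [LieModule.lowerCentralSeries_succ]
    exact LieSubmodule.lie_mem_lie (LieSubmodule.mem_top (⟨hit (V := V) f, f, hf, rfl⟩ : L)) hx

variable {K : Type u} [Field K] [Algebra k K]

theorem IsEpsDer.restrict {F : K ⊗[k] A →ₗ[K] K} (hF : IsEpsDer F) (φ : K →ₗ[k] k) :
    IsEpsDer (φ ∘ₗ F.restrictScalars k ∘ₗ (TensorProduct.mk k K A 1)) := fun a b => by
  have e : ∀ x : A, counit (R := K) ((1 : K) ⊗ₜ[k] x) = algebraMap k K (counit (R := k) x) := fun x => by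
    simp [Algebra.smul_def]
  show φ (F ((1 : K) ⊗ₜ[k] (a * b))) = _
  rw [show (1 : K) ⊗ₜ[k] (a * b) = ((1 : K) ⊗ₜ[k] a) * ((1 : K) ⊗ₜ[k] b) by
      rw [Algebra.TensorProduct.tmul_mul_tmul, one_mul],
    hF, e, e, ← Algebra.smul_def, ← Algebra.smul_def, map_add, map_smul, map_smul]
  rfl

/-- Nilpotence of derivations is stable under extension of the ground field. -/
theorem NilDer.baseChange (h : NilDer k A) : NilDer K (K ⊗[k] A) := by
  intro F hF
  have key : ∀ a : A, ∃ n : ℕ, ((hit (V := K ⊗[k] A) F) ^ n) ((1 : K) ⊗ₜ[k] a) = 0 := by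
    intro a
    let S := orbit k A a
    haveI : Module.Finite k S := finite_orbit a
    letI c : Comod k A S := ComodSub.Comod.restr inferInstance S (isSubcomod_orbit a)
    obtain ⟨G, h0, ⟨N, hN⟩, hG⟩ := exists_series h S
    let G' : ℕ → Submodule k A := fun j => (G j).map S.subtype
    have hG' : ∀ f : A →ₗ[k] k, IsEpsDer f → ∀ j, ∀ x ∈ G' j, hit (V := A) f x ∈ G' (j + 1) := by
      rintro f hf j _ ⟨y, hy, rfl⟩
      exact ⟨hit (V := S) f y, hG f hf j y hy, hit_restr (isSubcomod_orbit a) f y⟩
    let R : ℕ → Submodule k (K ⊗[k] A) := fun j => LinearMap.range ((G' j).subtype.lTensor K)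
    have hsmul : ∀ j (c : K), ∀ z ∈ R j, c • z ∈ R j := by
      rintro j c _ ⟨w, rfl⟩
      induction w using TensorProduct.induction_on with
      | zero => simp
      | add p q hp hq => rw [map_add, smul_add]; exact add_mem hp hq
      | tmul d u => exact ⟨(c * d) ⊗ₜ[k] u, by simp [TensorProduct.smul_tmul']⟩
    have hone : ∀ j, ∀ s ∈ G' j, hit (V := K ⊗[k] A) F ((1 : K) ⊗ₜ[k] s) ∈ R (j + 1) := by
      intro j s hs
      refine mem_range_lTensor_subtype_iff.2 fun φ => ?_
      rw [hit_regular, comul_one_tmul]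
      have e : ∀ t : A ⊗[k] A, sliceL φ (sliceR F (incl₂ K A t)) =
          sliceR (φ ∘ₗ F.restrictScalars k ∘ₗ (TensorProduct.mk k K A 1)) t := fun t => by
        induction t using TensorProduct.induction_on with
        | zero => simp
        | add p q hp hq => simp only [map_add, hp, hq]
        | tmul p q =>
          rw [incl₂_tmul, sliceR_tmul, sliceR_tmul, TensorProduct.smul_tmul', smul_eq_mul, mul_one, sliceL_tmul]
          rfl
      rw [e, ← hit_regular]
      exact hG' _ (hF.restrict φ) j s hs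
    have hstep : ∀ j, ∀ z ∈ R j, hit (V := K ⊗[k] A) F z ∈ R (j + 1) := by
      rintro j _ ⟨w, rfl⟩
      induction w using TensorProduct.induction_on with
      | zero => simp
      | add p q hp hq => rw [map_add, map_add]; exact add_mem hp hq
      | tmul d u =>
        rw [LinearMap.lTensor_tmul, show d ⊗ₜ[k] ((G' j).subtype u) = d • ((1 : K) ⊗ₜ[k] (u : A)) by
          simp [TensorProduct.smul_tmul'], map_smul]
        exact hsmul _ d _ (hone j _ u.2)
    have hiter : ∀ j, ((hit (V := K ⊗[k] A) F) ^ j) ((1 : K) ⊗ₜ[k] a) ∈ R j := by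
      intro j
      induction j with
      | zero =>
        refine ⟨(1 : K) ⊗ₜ[k] ⟨a, ⟨⟨a, mem_orbit_self a⟩, by rw [h0]; exact Submodule.mem_top, rfl⟩⟩, ?_⟩
        simp
      | succ j ih => rw [pow_succ', Module.End.mul_apply]; exact hstep j _ ih
    refine ⟨N, ?_⟩
    obtain ⟨w, hw⟩ := hiter N
    have hzero : G' N = ⊥ := by simp [G', hN]
    rw [← hw]
    have h0' : ∀ w : K ⊗[k] (G' N), (G' N).subtype.lTensor K w = 0 := fun w => by
      induction w using TensorProduct.induction_on with
      | zero => simp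
      | add x y hx hy => rw [map_add, hx, hy, add_zero]
      | tmul d u =>
        have hu : (u : A) = 0 := (Submodule.eq_bot_iff _).1 hzero _ u.2
        simp [hu]
    exact h0' w
  intro b
  induction b using TensorProduct.induction_on with
  | zero => exact ⟨0, by simp⟩
  | tmul c a =>
    obtain ⟨n, hn⟩ := key a
    refine ⟨n, ?_⟩
    rw [show c ⊗ₜ[k] a = c • ((1 : K) ⊗ₜ[k] a) by rw [TensorProduct.smul_tmul', smul_eq_mul, mul_one], map_smul, hn,
      smul_zero]
  | add x y hx hy =>
    obtain ⟨m, hm⟩ := hx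
    obtain ⟨n, hn⟩ := hy
    refine ⟨m + n, ?_⟩
    rw [map_add]
    have h1 : ((hit (V := K ⊗[k] A) F) ^ (m + n)) x = 0 := by
      rw [add_comm, pow_add, Module.End.mul_apply, hm, map_zero]
    have h2 : ((hit (V := K ⊗[k] A) F) ^ (m + n)) y = 0 := by
      rw [pow_add, Module.End.mul_apply, hn, map_zero]
    rw [h1, h2, add_zero]

/-- In characteristic `p` locally nilpotent derivations of a finitely generated algebra are `p`-nilpotent. -/
theorem exists_iterAug_pow_eq_zero (p : ℕ) [hp : Fact p.Prime] [CharP k p] [Algebra.FiniteType k A] {δ : A →ₗ[k] k}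
    (hδ : IsEpsDer δ) (hN : ∀ a : A, ∃ n : ℕ, ((hit (V := A) δ) ^ n) a = 0) :
    ∃ n : ℕ, 0 < n ∧ iterAug δ (p ^ n) = 0 := by
  classical
  obtain ⟨s, hs⟩ := (inferInstance : Algebra.FiniteType k A).out
  choose N hN' using hN
  let m := s.sup N + 1
  refine ⟨m, Nat.succ_pos _, ?_⟩
  haveI : Nontrivial (A ⊗[k] A) := (Algebra.TensorProduct.lift (Bialgebra.counitAlgHom k A)
    (Bialgebra.counitAlgHom k A) fun _ _ => Commute.all _ _).toRingHom.domain_nontrivial
  haveI : CharP (Module.End k (A ⊗[k] A)) p :=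
    charP_of_injective_algebraMap (algebraMap k (Module.End k (A ⊗[k] A))).injective p
  let D := hit (V := A) δ
  let T1 : Module.End k (A ⊗[k] A) := D.rTensor A
  let T2 : Module.End k (A ⊗[k] A) := D.lTensor A
  have hcomm : Commute T1 T2 := LinearMap.ext fun t => by
    induction t using TensorProduct.induction_on with
    | zero => simp
    | add x y hx hy => simp only [map_add, hx, hy]
    | tmul a b => simp [T1, T2]
  have hmul : ∀ (j : ℕ) (t : A ⊗[k] A), (D ^ j) (LinearMap.mul' k A t) = LinearMap.mul' k A (((T1 + T2) ^ j) t) := by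
    intro j
    induction j with
    | zero => intro t; simp
    | succ j ih =>
      intro t
      rw [pow_succ, pow_succ, Module.End.mul_apply, Module.End.mul_apply, ← ih]
      congr 1
      clear ih
      induction t using TensorProduct.induction_on with
      | zero => simp
      | add x y hx hy => simp only [map_add, hx, hy]
      | tmul a b =>
        simp only [T1, T2, D, LinearMap.add_apply, LinearMap.rTensor_tmul, LinearMap.lTensor_tmul, map_add,
          LinearMap.mul'_apply]
        rw [hδ.hit_mul]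
        ring
  have hpow1 : ∀ (j : ℕ) (a b : A), (T1 ^ j) (a ⊗ₜ[k] b) = ((D ^ j) a) ⊗ₜ[k] b := by
    intro j
    induction j with
    | zero => intro a b; simp
    | succ j ih => intro a b; simp [pow_succ, Module.End.mul_apply, T1, ih]
  have hpow2 : ∀ (j : ℕ) (a b : A), (T2 ^ j) (a ⊗ₜ[k] b) = a ⊗ₜ[k] ((D ^ j) b) := by
    intro j
    induction j with
    | zero => intro a b; simp
    | succ j ih => intro a b; simp [pow_succ, Module.End.mul_apply, T2, ih]
  have hleib : ∀ a b : A, (D ^ (p ^ m)) (a * b) = (D ^ (p ^ m)) a * b + a * (D ^ (p ^ m)) b := fun a b => by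
    have h1 := hmul (p ^ m) (a ⊗ₜ[k] b)
    rw [LinearMap.mul'_apply, add_pow_char_pow_of_commute (p := p) (h := hcomm), LinearMap.add_apply, hpow1, hpow2, map_add,
      LinearMap.mul'_apply, LinearMap.mul'_apply] at h1
    exact h1
  have hgen : ∀ a : A, (D ^ (p ^ m)) a = 0 := by
    intro a
    have ha : a ∈ Algebra.adjoin k (s : Set A) := by rw [hs]; exact Algebra.mem_top
    induction ha using Algebra.adjoin_induction with
    | mem x hx =>
      have hle : N x ≤ p ^ m := ((Finset.le_sup (f := N) hx).trans (Nat.le_succ _)).trans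
        (Nat.lt_pow_self hp.out.one_lt).le
      rw [← Nat.sub_add_cancel hle, pow_add, Module.End.mul_apply, hN' x, map_zero]
    | algebraMap r =>
      obtain ⟨l, hl⟩ := Nat.exists_eq_succ_of_ne_zero (pow_ne_zero m hp.out.ne_zero)
      rw [hl, pow_succ, Module.End.mul_apply, Algebra.algebraMap_eq_smul_one]
      show (D ^ l) (hit (V := A) δ (r • 1)) = 0
      rw [map_smul, hit_one, hδ.map_one, zero_smul, smul_zero, map_zero]
    | add x y _ _ hx hy => rw [map_add, hx, hy, add_zero]
    | mul x y _ _ hx hy => rw [hleib, hx, hy, zero_mul, mul_zero, add_zero]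
  refine LinearMap.ext fun a => ?_
  show counit (R := k) ((D ^ (p ^ m)) a) = _
  rw [hgen, map_zero, LinearMap.zero_apply]

end Groth.Agent.CohDer1.NoMu
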