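import Groth.Agent.CohDer1.NoMu.HeightOne
import Groth.Agent.HopfQuot.UnipotentInduction
import Mathlib.FieldTheory.Perfect
import Mathlib.LinearAlgebra.TensorProduct.Basis

/-!
# Infinitesimal groups with nilpotent Lie algebra are unipotent
-/

set_option autoImplicit false

noncomputable section

open TensorProduct HopfRep
open Groth.Agent.HopfLib Groth.Agent.HopfQuot
open Coalgebra (comul counit)

universe u

namespace Groth.Agent.CohDer1.NoMu

variable {k : Type u} [Field k] {A : Type u} [CommRing A] [HopfAlgebra k A]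

theorem nilDer_of_surjective {B : Type u} [CommRing B] [Bialgebra k B] (π : A →ₐc[k] B) (hπ : Function.Surjective π)
    (h : NilDer k A) : NilDer k B := by
  intro f hf b
  obtain ⟨a, rfl⟩ := hπ b
  let F : A →ₗ[k] k := f ∘ₗ (π : A →ₐ[k] B).toLinearMap
  obtain ⟨n, hn⟩ := h F (hf.comp π) a
  have key : ∀ (n : ℕ) (a : A), ((hit (V := B) f) ^ n) (π a) = π (((hit (V := A) F) ^ n) a) := by
    intro n
    induction n with
    | zero => intro a; simp
    | succ n ih =>
      intro a
      rw [pow_succ', pow_succ', Module.End.mul_apply, Module.End.mul_apply, ih]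
      exact (map_hit π f _).symm
  exact ⟨n, by rw [key, hn, map_zero]⟩

variable {p : ℕ} [hp : Fact p.Prime] [CharP k p]

omit [CharP k p] in
theorem charP_alg [CharP k p] : CharP A p := by
  haveI : Nontrivial A := (Bialgebra.counitAlgHom k A).toRingHom.domain_nontrivial
  exact charP_of_injective_algebraMap (algebraMap k A).injective p

theorem charP_tensor : CharP (A ⊗[k] A) p := by
  refine charP_of_injective_algebraMap (R := k) (fun a b h => ?_) p
  have h' := congrArg (Algebra.TensorProduct.lift (Bialgebra.counitAlgHom k A) (Bialgebra.counitAlgHom k A)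
    fun _ _ => Commute.all _ _) h
  simpa using h'

variable (p) in
/-- Elements killed by the Frobenius form a Hopf ideal. -/
theorem isHopfIdeal_ker_frobenius [PerfectRing k p] [hA : CharP A p] :
    (RingHom.ker (frobenius A p)).IsHopfIdeal k := by
  classical
  haveI : CharP (A ⊗[k] A) p := charP_tensor
  set I := RingHom.ker (frobenius A p) with hI
  have hmem : ∀ a, a ∈ I ↔ a ^ p = 0 := fun a => Iff.rfl
  refine { toIsCoideal := ⟨fun a ha => ?_, fun a ha => ?_⟩, antipode_mem := fun a ha => ?_ }
  · have h1 := congrArg (Bialgebra.counitAlgHom k A) ((hmem a).1 ha)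
    rw [map_pow, map_zero] at h1
    exact eq_zero_of_pow_eq_zero h1
  · let π : A →ₗ[k] A ⧸ I := (Ideal.Quotient.mkₐ k I).toLinearMap
    obtain ⟨s, hs⟩ := π.exists_rightInverse_of_surjective
      (LinearMap.range_eq_top.2 Ideal.Quotient.mk_surjective)
    have hs' : ∀ q, π (s q) = q := fun q => LinearMap.congr_fun hs q
    have hdiff : ∀ b, (b - s (π b)) ^ p = 0 := fun b => (hmem _).1 (Ideal.Quotient.eq_zero_iff_mem.1 (by
      show π (b - s (π b)) = 0
      rw [map_sub, hs', sub_self]))
    have hz : ∀ z : A ⊗[k] A, (z - TensorProduct.map s s (TensorProduct.map π π z)) ^ p = 0 := fun z => by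
      induction z using TensorProduct.induction_on with
      | zero => simp [hp.out.ne_zero]
      | add u v hu hv =>
        rw [map_add, map_add, add_sub_add_comm, add_pow_char, hu, hv, add_zero]
      | tmul b c =>
        rw [TensorProduct.map_tmul, TensorProduct.map_tmul,
          show b ⊗ₜ[k] c - s (π b) ⊗ₜ[k] s (π c) = (b - s (π b)) ⊗ₜ[k] c + s (π b) ⊗ₜ[k] (c - s (π c)) by
            rw [TensorProduct.sub_tmul, TensorProduct.tmul_sub]; abel,
          add_pow_char, Algebra.TensorProduct.tmul_pow, Algebra.TensorProduct.tmul_pow, hdiff, hdiff,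
          TensorProduct.zero_tmul, TensorProduct.tmul_zero, add_zero]
    -- the Frobenius is injective on the quotient
    let bQ := Module.Free.chooseBasis k (A ⧸ I)
    have hli : LinearIndependent k fun i => s (bQ i) ^ p := by
      rw [linearIndependent_iff']
      intro t g hg i hi
      choose r hr using fun l => surjective_frobenius k p (g l)
      have h1 : (∑ l ∈ t, r l • s (bQ l)) ^ p = 0 := by
        rw [sum_pow_char p]
        refine Eq.trans (Finset.sum_congr rfl fun l _ => ?_) hg
        rw [smul_pow, ← hr l]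
        rfl
      have h2 := congrArg π (show (∑ l ∈ t, r l • s (bQ l)) = (∑ l ∈ t, r l • s (bQ l)) from rfl)
      have h3 : ∑ l ∈ t, r l • bQ l = 0 := by
        have h4 : π (∑ l ∈ t, r l • s (bQ l)) = 0 := Ideal.Quotient.eq_zero_iff_mem.2 ((hmem _).2 h1)
        simpa [map_sum, map_smul, hs'] using h4
      rw [← hr i, linearIndependent_iff'.1 bQ.linearIndependent t r h3 i hi, map_zero]
    have hinj : ∀ u : (A ⧸ I) ⊗[k] (A ⧸ I), (TensorProduct.map s s u) ^ p = 0 → u = 0 := by
      intro u hu
      let b2 := bQ.tensorProduct bQ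
      rw [← b2.linearCombination_repr u, Finsupp.linearCombination_apply, Finsupp.sum] at hu ⊢
      rw [map_sum, sum_pow_char p] at hu
      refine Finset.sum_eq_zero fun q hq => ?_
      have hind := LinearIndependent.tmul_of_flat_left hli hli
      have h1 : ∑ q ∈ (b2.repr u).support, (b2.repr u q) ^ p • ((s (bQ q.1) ^ p) ⊗ₜ[k] (s (bQ q.2) ^ p)) = 0 := by
        refine Eq.trans (Finset.sum_congr rfl fun q _ => ?_) hu
        rw [map_smul, smul_pow, Module.Basis.tensorProduct_apply, TensorProduct.map_tmul,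
          Algebra.TensorProduct.tmul_pow]
      rw [eq_zero_of_pow_eq_zero (linearIndependent_iff'.1 hind _ _ h1 q hq), zero_smul]
    refine hinj _ ?_
    have h1 := hz (comul (R := k) a)
    have h2 : (comul (R := k) a) ^ p = 0 := by
      rw [← Bialgebra.comul_pow, (hmem a).1 ha, map_zero]
    rw [sub_pow_char, h2, zero_sub, neg_eq_zero] at h1
    exact h1
  · rw [hmem]
    show (HopfAlgebra.antipode k a) ^ p = 0
    rw [← HopfAlgebra.antipodeAlgHom_apply (R := k), ← map_pow, (hmem a).1 ha, map_zero]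

/-- An infinitesimal group with nilpotent Lie algebra has a primitive function. -/
theorem exists_primitive_of_infinitesimal [PerfectRing k p] :
    ∀ (r : ℕ) (A : Type u) [CommRing A] [HopfAlgebra k A] [IsNoetherianRing A],
      (∀ a ∈ aug k A, a ^ p ^ r = 0) → NilDer k A → (∃ a : A, a ≠ algebraMap k A (counit (R := k) a)) →
      ∃ x : A, x ≠ 0 ∧ comul (R := k) x = x ⊗ₜ[k] (1 : A) + (1 : A) ⊗ₜ[k] x := by
  intro r
  induction r with
  | zero =>
    intro A _ _ _ hr _ ⟨a, ha⟩
    refine absurd ?_ ha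
    have := hr (a - algebraMap k A (counit (R := k) a))
      (by rw [mem_aug, map_sub, Bialgebra.counit_algebraMap, sub_self])
    rwa [pow_zero, pow_one, sub_eq_zero] at this
  | succ r ih =>
    intro A _ _ _ hr hN hne
    haveI : CharP A p := charP_alg (k := k)
    haveI : CharP (A ⊗[k] A) p := charP_tensor
    by_cases h1 : ∀ a ∈ aug k A, a ^ p = 0
    · exact exists_primitive_of_height_one h1 hN hne
    push Not at h1
    obtain ⟨a₀, ha₀, ha₀p⟩ := h1
    let I := RingHom.ker (frobenius A p)
    haveI : I.IsHopfIdeal k := isHopfIdeal_ker_frobenius p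
    let π : A →ₐc[k] A ⧸ I := Bialgebra.Quotient.mkBialgHom (R := k) I
    have hπ : Function.Surjective π := Ideal.Quotient.mk_surjective
    obtain ⟨x, hx0, hx⟩ := ih (A ⧸ I) (fun q hq => by
      obtain ⟨a, rfl⟩ := hπ q
      have ha : a ∈ aug k A := by
        rw [mem_aug] at hq ⊢
        rwa [CoalgHomClass.counit_comp_apply π a] at hq
      show Ideal.Quotient.mk I a ^ p ^ r = 0
      rw [← map_pow]
      refine Ideal.Quotient.eq_zero_iff_mem.2 ?_
      show (a ^ p ^ r) ^ p = 0
      rw [← pow_mul, ← pow_succ, hr a ha]) (nilDer_of_surjective π hπ hN) ⟨π a₀, fun h => ha₀p (by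
        rw [CoalgHomClass.counit_comp_apply π a₀, mem_aug.1 ha₀, map_zero] at h
        exact (Ideal.Quotient.eq_zero_iff_mem (I := I)).1 h)⟩
    obtain ⟨a, rfl⟩ := hπ x
    refine ⟨a ^ p, fun h0 => hx0 ((Ideal.Quotient.eq_zero_iff_mem (I := I)).2 h0), ?_⟩
    let w := comul (R := k) a - a ⊗ₜ[k] (1 : A) - (1 : A) ⊗ₜ[k] a
    have hw : Algebra.TensorProduct.map (Ideal.Quotient.mkₐ k I) (Ideal.Quotient.mkₐ k I) w = 0 := by
      rw [map_sub, map_sub, Algebra.TensorProduct.map_tmul, Algebra.TensorProduct.map_tmul, map_one,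
        show Algebra.TensorProduct.map (Ideal.Quotient.mkₐ k I) (Ideal.Quotient.mkₐ k I) (comul (R := k) a) =
          comul (R := k) (π a) from CoalgHomClass.map_comp_comul_apply π a, hx]
      show π a ⊗ₜ[k] (1 : A ⧸ I) + (1 : A ⧸ I) ⊗ₜ[k] π a - π a ⊗ₜ[k] 1 - 1 ⊗ₜ[k] π a = 0
      abel
    have hwker : w ∈ RingHom.ker (Algebra.TensorProduct.map (Ideal.Quotient.mkₐ k I) (Ideal.Quotient.mkₐ k I)) := hw
    rw [Algebra.TensorProduct.map_ker _ _ Ideal.Quotient.mk_surjective Ideal.Quotient.mk_surjective] at hwker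
    have hI : ∀ (φ : A →ₐ[k] A ⊗[k] A), ∀ y ∈ (RingHom.ker (Ideal.Quotient.mkₐ k I)).map φ, y ^ p = 0 := by
      intro φ y hy
      refine (Ideal.map_le_iff_le_comap (K := RingHom.ker (frobenius (A ⊗[k] A) p))).2 (fun b hb => ?_) hy
      show (φ b) ^ p = 0
      rw [← map_pow, show b ^ p = 0 from (Ideal.Quotient.eq_zero_iff_mem (I := I)).1 hb, map_zero]
    obtain ⟨u, hu, v, hv, huv⟩ := Submodule.mem_sup.1 hwker
    have hwp : w ^ p = 0 := by rw [← huv, add_pow_char, hI _ u hu, hI _ v hv, add_zero]
    rw [sub_pow_char, sub_pow_char, ← Bialgebra.comul_pow, Algebra.TensorProduct.tmul_pow,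
      Algebra.TensorProduct.tmul_pow, one_pow, sub_sub, sub_eq_zero] at hwp
    exact hwp

/-- Infinitesimal groups with nilpotent Lie algebra are unipotent. -/
theorem isUnipotent_of_infinitesimal [PerfectRing k p] [Algebra.FiniteType k A] (r : ℕ)
    (hr : ∀ a ∈ aug k A, a ^ p ^ r = 0) (hN : NilDer k A) : IsUnipotent k A :=
  isUnipotent_of_forall_primitive fun B _ _ π hπ hne => by
    haveI := Algebra.FiniteType.isNoetherianRing k A
    haveI : IsNoetherianRing B := isNoetherianRing_of_surjective A B (π : A →+* B) hπ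
    refine exists_primitive_of_infinitesimal (p := p) r B (fun b hb => ?_) (nilDer_of_surjective π hπ hN) hne
    obtain ⟨a, rfl⟩ := hπ b
    rw [mem_aug] at hb
    have := hr a (by rw [mem_aug]; rwa [CoalgHomClass.counit_comp_apply π a] at hb)
    show (π a) ^ p ^ r = 0
    rw [← map_pow, this, map_zero]

variable (k A) in
/-- The ideal of a Frobenius kernel. -/
def frobKer (q : ℕ) : Ideal A := Ideal.span ((fun a => a ^ q) '' (aug k A : Set A))

theorem frobKer_le (q : ℕ) : frobKer k A q ≤ aug k A ^ q := by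
  refine Ideal.span_le.2 ?_
  rintro _ ⟨a, ha, rfl⟩
  exact Ideal.pow_mem_pow ha q

theorem pow_mk_frobKer [CharP A p] (r : ℕ) (b : A) :
    Ideal.Quotient.mk (frobKer k A (p ^ r)) b ^ p ^ r =
      algebraMap k (A ⧸ frobKer k A (p ^ r)) (counit (R := k) b ^ p ^ r) := by
  rw [← map_pow, IsScalarTower.algebraMap_apply k A (A ⧸ frobKer k A (p ^ r)), Ideal.Quotient.algebraMap_eq,
    Ideal.Quotient.eq, map_pow, ← sub_pow_char_pow]
  exact Ideal.subset_span ⟨b - algebraMap k A (counit (R := k) b),
    by rw [SetLike.mem_coe, mem_aug, map_sub, Bialgebra.counit_algebraMap, sub_self], rfl⟩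

theorem isHopfIdeal_frobKer [CharP A p] (r : ℕ) : (frobKer k A (p ^ r)).IsHopfIdeal k := by
  classical
  have hq : p ^ r ≠ 0 := pow_ne_zero _ hp.out.ne_zero
  refine { toIsCoideal := ⟨fun a ha => ?_, fun a ha => ?_⟩, antipode_mem := fun a ha => ?_ }
  · exact mem_aug.1 (Ideal.pow_le_self hq (frobKer_le _ ha))
  · let T := (A ⧸ frobKer k A (p ^ r)) ⊗[k] (A ⧸ frobKer k A (p ^ r))
    let π := Algebra.TensorProduct.map (Ideal.Quotient.mkₐ k (frobKer k A (p ^ r)))
      (Ideal.Quotient.mkₐ k (frobKer k A (p ^ r)))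
    let εε : A ⊗[k] A →ₐ[k] k := Algebra.TensorProduct.lift (Bialgebra.counitAlgHom k A)
      (Bialgebra.counitAlgHom k A) fun _ _ => Commute.all _ _
    haveI : ExpChar k p := ExpChar.prime hp.out
    have key : ∀ z : A ⊗[k] A, π (z ^ p ^ r) = algebraMap k T (εε z ^ p ^ r) := fun z => by
      haveI : CharP (A ⊗[k] A) p := charP_tensor
      induction z using TensorProduct.induction_on with
      | zero => simp [zero_pow hq]
      | add u v hu hv => rw [add_pow_char_pow, map_add, hu, hv, map_add, add_pow_char_pow, map_add]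
      | tmul b c =>
        rw [Algebra.TensorProduct.tmul_pow, Algebra.TensorProduct.map_tmul]
        show Ideal.Quotient.mk _ (b ^ p ^ r) ⊗ₜ[k] Ideal.Quotient.mk _ (c ^ p ^ r) = _
        rw [map_pow, map_pow, pow_mk_frobKer, pow_mk_frobKer, Algebra.algebraMap_eq_smul_one,
          Algebra.algebraMap_eq_smul_one, Algebra.algebraMap_eq_smul_one, TensorProduct.smul_tmul_smul,
          ← mul_pow]
        rfl
    show π (Bialgebra.comulAlgHom k A a) = 0
    refine (Ideal.span_le (I := RingHom.ker (π.comp (Bialgebra.comulAlgHom k A)))).2 ?_ ha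
    rintro _ ⟨b, hb, rfl⟩
    show π (Bialgebra.comulAlgHom k A (b ^ p ^ r)) = 0
    rw [map_pow, key]
    have : εε (Bialgebra.comulAlgHom k A b) = 0 := by
      have e : ∀ z : A ⊗[k] A, εε z = counit (R := k) (sliceR (counit (R := k)) z) := fun z => by
        induction z using TensorProduct.induction_on with
        | zero => simp
        | add u v hu hv => simp only [map_add, hu, hv]
        | tmul u v => simp [εε, mul_comm]
      rw [e]
      refine (congrArg _ (hitR_counit b)).trans ?_
      exact mem_aug.1 hb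
    rw [this, zero_pow hq, map_zero]
  · refine (Ideal.span_le (I := (frobKer k A (p ^ r)).comap (HopfAlgebra.antipodeAlgHom k A))).2 ?_ ha
    rintro _ ⟨b, hb, rfl⟩
    show HopfAlgebra.antipodeAlgHom k A (b ^ p ^ r) ∈ frobKer k A (p ^ r)
    rw [map_pow]
    refine Ideal.subset_span ⟨HopfAlgebra.antipodeAlgHom k A b, ?_, rfl⟩
    rw [SetLike.mem_coe, mem_aug, HopfAlgebra.antipodeAlgHom_apply, HopfAlgebra.counit_antipode]
    exact mem_aug.1 hb

/-- Frobenius kernels of a group with nilpotent Lie algebra are unipotent. -/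
theorem isUnipotent_frobKer [PerfectRing k p] [Algebra.FiniteType k A] [CharP A p] (hN : NilDer k A) (r : ℕ) :
    haveI := isHopfIdeal_frobKer (k := k) (A := A) (p := p) r
    IsUnipotent k (A ⧸ frobKer k A (p ^ r)) := by
  haveI := isHopfIdeal_frobKer (k := k) (A := A) (p := p) r
  let π : A →ₐc[k] A ⧸ frobKer k A (p ^ r) := Bialgebra.Quotient.mkBialgHom (R := k) _
  haveI : Algebra.FiniteType k (A ⧸ frobKer k A (p ^ r)) :=
    Algebra.FiniteType.of_surjective (Ideal.Quotient.mkₐ k _) Ideal.Quotient.mk_surjective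
  refine isUnipotent_of_infinitesimal (p := p) r (fun q hq => ?_)
    (nilDer_of_surjective π Ideal.Quotient.mk_surjective hN)
  obtain ⟨a, rfl⟩ := Ideal.Quotient.mk_surjective q
  rw [pow_mk_frobKer, show counit (R := k) a = 0 from (CoalgHomClass.counit_comp_apply π a).symm.trans hq,
    zero_pow (pow_ne_zero _ hp.out.ne_zero), map_zero]

end Groth.Agent.CohDer1.NoMu
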