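import Groth.Agent.CohDer1.NoMu.Mu
import Groth.Agent.CohDer1.NoMu.Infinitesimal

/-!
# The subgroup generated by a derivation at the counit
-/

set_option autoImplicit false

noncomputable section

open TensorProduct HopfRep
open Groth.Agent.HopfLib Groth.Agent.HopfQuot
open Coalgebra (comul counit)

universe u

namespace Groth.Agent.CohDer1.NoMu

variable {k : Type u} [Field k] {A : Type u} [CommRing A] [HopfAlgebra k A]

/-- The iterates of a derivation evaluated at the counit. -/
def iterAug (δ : A →ₗ[k] k) (n : ℕ) : A →ₗ[k] k :=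
  counit (R := k) ∘ₗ ((hit (V := A) δ) ^ n)

theorem iterAug_succ (δ : A →ₗ[k] k) (n : ℕ) (a : A) :
    iterAug δ (n + 1) a = iterAug δ n (hit (V := A) δ a) := by
  simp [iterAug, pow_succ, Module.End.mul_apply]

theorem hit_iterAug (δ : A →ₗ[k] k) : ∀ n : ℕ, hit (V := A) (iterAug δ n) = (hit (V := A) δ) ^ n := by
  intro n
  induction n with
  | zero =>
    refine LinearMap.ext fun a => ?_
    rw [show iterAug δ 0 = counit (R := k) (A := A) from LinearMap.ext fun b => by simp [iterAug]]
    simp
  | succ n ih =>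
    refine LinearMap.ext fun a => ?_
    rw [show iterAug δ (n + 1) = formMul (iterAug δ n) δ from
      LinearMap.ext fun b => (iterAug_succ δ n b).trans (formMul_apply _ _ b).symm,
      ← hit_hit, ih, pow_succ, Module.End.mul_apply]

theorem formMul_iterAug (δ : A →ₗ[k] k) (i j : ℕ) (a : A) :
    formMul (iterAug δ i) (iterAug δ j) a = iterAug δ (i + j) a := by
  rw [formMul_apply, hit_iterAug]
  simp [iterAug, pow_add, Module.End.mul_apply]

variable {δ : A →ₗ[k] k}

theorem IsEpsDer.hit_pow (hδ : IsEpsDer δ) (a : A) :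
    ∀ m : ℕ, hit (V := A) δ (a ^ (m + 1)) = (m + 1) • (a ^ m * hit (V := A) δ a) := by
  intro m
  induction m with
  | zero => simp
  | succ m ih =>
    rw [pow_succ a (m + 1), hδ.hit_mul, ih]
    simp only [nsmul_eq_mul, pow_succ]
    push_cast
    ring

theorem apply_antipode (hδ : IsEpsDer δ) (a : A) : δ (HopfAlgebra.antipode k a) = -δ a := by
  have h := congrArg δ (HopfAlgebra.mul_antipode_rTensor_comul_apply (R := k) a)
  rw [Algebra.algebraMap_eq_smul_one, map_smul, hδ.map_one, smul_zero] at h
  have e : ∀ t : A ⊗[k] A, δ (LinearMap.mul' k A ((HopfAlgebra.antipode k (A := A)).rTensor A t)) =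
      δ (HopfAlgebra.antipode k (sliceR (counit (R := k)) t)) + δ (sliceL (counit (R := k)) t) := fun t => by
    induction t using TensorProduct.induction_on with
    | zero => simp
    | add p q hp hq => simp only [map_add, hp, hq]; abel
    | tmul p q =>
      rw [LinearMap.rTensor_tmul, LinearMap.mul'_apply, hδ, HopfAlgebra.counit_antipode, sliceR_tmul, sliceL_tmul,
        map_smul, map_smul, map_smul]
      simp only [smul_eq_mul]
      ring
  rw [e] at h
  rw [show sliceR (counit (R := k)) (comul (R := k) a) = a from hitR_counit a,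
    show sliceL (counit (R := k)) (comul (R := k) a) = a from hitL_counit a] at h
  exact eq_neg_of_add_eq_zero_left h

theorem iterAug_hitL (δ : A →ₗ[k] k) (n : ℕ) (a : A) :
    iterAug δ n (hitL δ a) = iterAug δ (n + 1) a := by
  have e : iterAug δ n (hitL δ a) = formMul δ (iterAug δ n) a := by
    simp only [hitL, formMul, LinearMap.comp_apply]
    generalize comul (R := k) a = t
    induction t using TensorProduct.induction_on with
    | zero => simp
    | add p q hp hq => simp only [map_add, hp, hq]
    | tmul p q => simp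
  rw [e, formMul_apply, hit_iterAug]
  show δ _ = counit (R := k) (((hit (V := A) δ) ^ (n + 1)) a)
  rw [pow_succ', Module.End.mul_apply, counit_hit']

theorem iterAug_antipode (hδ : IsEpsDer δ) :
    ∀ (n : ℕ) (a : A), iterAug δ n (HopfAlgebra.antipode k a) = (-1) ^ n * iterAug δ n a := by
  intro n
  induction n with
  | zero => intro a; simp [iterAug, HopfAlgebra.counit_antipode]
  | succ n ih =>
    intro a
    have h : hit (V := A) δ (HopfAlgebra.antipode k a) = -HopfAlgebra.antipode k (hitL δ a) := by
      rw [hit_regular, comul_antipode, hitL, LinearMap.comp_apply]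
      generalize comul (R := k) a = t
      induction t using TensorProduct.induction_on with
      | zero => simp
      | add p q hp hq => simp only [map_add, hp, hq]; abel
      | tmul p q =>
        rw [TensorProduct.comm_tmul, TensorProduct.map_tmul, sliceR_tmul, sliceL_tmul, map_smul,
          apply_antipode hδ, neg_smul]
    rw [iterAug_succ, h, map_neg, ih, iterAug_hitL, pow_succ]
    ring

/-- The ideal of the subgroup generated by a derivation. -/
def derIdeal (hδ : IsEpsDer δ) : Ideal A where
  carrier := {a | ∀ n, iterAug δ n a = 0}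
  add_mem' {a b} ha hb n := by rw [map_add, ha n, hb n, add_zero]
  zero_mem' n := map_zero _
  smul_mem' b a ha n := by
    induction n generalizing a b with
    | zero => simpa [iterAug] using Or.inr (show counit (R := k) a = 0 by simpa [iterAug] using ha 0)
    | succ n ih =>
      rw [iterAug_succ, smul_eq_mul, hδ.hit_mul, map_add, mul_comm a (hit (V := A) δ b)]
      have h1 := ih b (hit (V := A) δ a) fun m => (iterAug_succ δ m a).symm.trans (ha (m + 1))
      have h2 := ih (hit (V := A) δ b) a ha
      rw [smul_eq_mul] at h1 h2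
      rw [h1, h2, add_zero]

theorem mem_derIdeal (hδ : IsEpsDer δ) {a : A} : a ∈ derIdeal hδ ↔ ∀ n, iterAug δ n a = 0 := Iff.rfl

/-- The forms on the quotient given by the iterates. -/
def iterForms (hδ : IsEpsDer δ) : Set (A ⧸ derIdeal hδ →ₗ[k] k) :=
  {f | ∃ i, ∀ a : A, f (Ideal.Quotient.mk (derIdeal hδ) a) = iterAug δ i a}

theorem eq_zero_of_iterForms (hδ : IsEpsDer δ) (v : A ⧸ derIdeal hδ) (hv : ∀ f ∈ iterForms hδ, f v = 0) : v = 0 := by
  obtain ⟨a, rfl⟩ := Ideal.Quotient.mk_surjective v
  refine Ideal.Quotient.eq_zero_iff_mem.2 fun n => ?_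
  exact hv (((derIdeal hδ).restrictScalars k).liftQ (iterAug δ n) (fun x hx => hx n)) ⟨n, fun _ => rfl⟩

theorem pair_iterForms (hδ : IsEpsDer δ) {f f' : A ⧸ derIdeal hδ →ₗ[k] k} {i j : ℕ}
    (hf : ∀ a : A, f (Ideal.Quotient.mk (derIdeal hδ) a) = iterAug δ i a)
    (hf' : ∀ a : A, f' (Ideal.Quotient.mk (derIdeal hδ) a) = iterAug δ j a) (a : A) :
    LinearMap.mul' k k (TensorProduct.map f f'
      (TensorProduct.map (Ideal.Quotient.mkₐ k (derIdeal hδ)).toLinearMap
        (Ideal.Quotient.mkₐ k (derIdeal hδ)).toLinearMap (comul (R := k) a))) = iterAug δ (i + j) a := by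
  rw [← formMul_iterAug]
  simp only [formMul, LinearMap.comp_apply]
  generalize comul (R := k) a = t
  induction t using TensorProduct.induction_on with
  | zero => simp
  | add p q hp hq => simp only [map_add, hp, hq]
  | tmul p q =>
    simp only [TensorProduct.map_tmul, LinearMap.mul'_apply]
    exact congrArg₂ (· * ·) (hf p) (hf' q)

theorem isHopfIdeal_derIdeal (hδ : IsEpsDer δ) : (derIdeal hδ).IsHopfIdeal k := by
  refine { toIsCoideal := ⟨fun a ha => ?_, fun a ha => ?_⟩, antipode_mem := fun a ha => ?_ }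
  · simpa [iterAug] using ha 0
  · refine eq_zero_of_forall_pair (k := k) (P := iterForms hδ) (Q := iterForms hδ)
      (eq_zero_of_iterForms hδ) (eq_zero_of_iterForms hδ) ?_
    rintro f ⟨i, hf⟩ f' ⟨j, hf'⟩
    exact (pair_iterForms hδ hf hf' a).trans (ha (i + j))
  · intro n
    rw [iterAug_antipode hδ, ha n, mul_zero]

theorem isCocomm_derIdeal (hδ : IsEpsDer δ) :
    haveI := isHopfIdeal_derIdeal hδ
    Coalgebra.IsCocomm k (A ⧸ derIdeal hδ) := by
  haveI := isHopfIdeal_derIdeal hδ
  refine ⟨LinearMap.ext fun q => ?_⟩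
  obtain ⟨a, rfl⟩ := Ideal.Quotient.mk_surjective q
  refine sub_eq_zero.1 (eq_zero_of_forall_pair (P := iterForms hδ) (Q := iterForms hδ)
    (eq_zero_of_iterForms hδ) (eq_zero_of_iterForms hδ) ?_)
  rintro f ⟨i, hf⟩ f' ⟨j, hf'⟩
  let π : A →ₐc[k] A ⧸ derIdeal hδ := Bialgebra.Quotient.mkBialgHom (R := k) _
  have e : ∀ t : (A ⧸ derIdeal hδ) ⊗[k] (A ⧸ derIdeal hδ),
      LinearMap.mul' k k (TensorProduct.map f f' (TensorProduct.comm k _ _ t)) =
      LinearMap.mul' k k (TensorProduct.map f' f t) := fun t => by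
    induction t using TensorProduct.induction_on with
    | zero => simp
    | add p q hp hq => simp only [map_add, hp, hq]
    | tmul p q => simp [mul_comm]
  rw [map_sub, map_sub, sub_eq_zero]
  show LinearMap.mul' k k (TensorProduct.map f f' (TensorProduct.comm k _ _ (comul (R := k) (π a)))) =
    LinearMap.mul' k k (TensorProduct.map f f' (comul (R := k) (π a)))
  rw [e, ← CoalgHomClass.map_comp_comul_apply π a]
  refine ((pair_iterForms hδ hf' hf a).trans ?_).trans (pair_iterForms hδ hf hf' a).symm
  rw [add_comm]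

/-- The subgroup generated by a derivation has height one. -/
theorem pow_char_mem_derIdeal (p : ℕ) [hp : Fact p.Prime] [CharP k p] (hδ : IsEpsDer δ) {a : A}
    (ha : counit (R := k) a = 0) : a ^ p ∈ derIdeal hδ := fun n => by
  cases n with
  | zero => simp [iterAug, ha, hp.out.ne_zero]
  | succ n =>
    obtain ⟨m, hm⟩ : ∃ m, p = m + 1 := ⟨p - 1, (Nat.succ_pred_eq_of_pos hp.out.pos).symm⟩
    rw [iterAug_succ, hm, hδ.hit_pow, ← hm, map_nsmul, nsmul_eq_mul, CharP.cast_eq_zero, zero_mul]

/-- If the subgroup generated by a derivation is unipotent, the derivation acts nilpotently. -/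
theorem isNilpotent_of_derIdeal (hδ : IsEpsDer δ)
    (hU : haveI := isHopfIdeal_derIdeal hδ; IsUnipotent k (A ⧸ derIdeal hδ)) (a : A) :
    ∃ n : ℕ, ((hit (V := A) δ) ^ n) a = 0 := by
  haveI := isHopfIdeal_derIdeal hδ
  let π : A →ₐc[k] A ⧸ derIdeal hδ := Bialgebra.Quotient.mkBialgHom (R := k) _
  let δ' : A ⧸ derIdeal hδ →ₗ[k] k := ((derIdeal hδ).restrictScalars k).liftQ δ fun x hx => by
    have := hx 1
    rwa [show iterAug δ 1 x = δ x by simp [iterAug, counit_hit']] at this
  have hδ' : δ' ∘ₗ (π : A →ₗc[k] A ⧸ derIdeal hδ).toLinearMap = δ := rfl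
  let S := orbit k A a
  haveI : Module.Finite k S := finite_orbit a
  letI c : Comod k A S := ComodSub.Comod.restr inferInstance S (isSubcomod_orbit a)
  letI c' : Comod k (A ⧸ derIdeal hδ) S := comodMap (π : A →ₗc[k] A ⧸ derIdeal hδ) c
  obtain ⟨F, hF, h0, htop, -, hs⟩ := exists_flag_unipotent (k := k) (A := A ⧸ derIdeal hδ) (V := S) hU
  have hshift : ∀ i, ∀ v ∈ F (i + 1), hit (A := A) δ v ∈ F i := fun i v hv => by
    have h := sliceR_mem_of_mem_range (hs i v hv) δ'
    rw [map_sub, sliceR_tmul, show δ' (1 : A ⧸ derIdeal hδ) = 0 from hδ.map_one, zero_smul, sub_zero] at h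
    rw [← hδ', ← hit_comodMap (π : A →ₗc[k] A ⧸ derIdeal hδ) δ' v]
    exact h
  have hpow : ∀ j, ∀ v ∈ F j, ((hit (V := S) (A := A) δ) ^ j) v = 0 := by
    intro j
    induction j with
    | zero => intro v hv; rw [h0, Submodule.mem_bot] at hv; simp [hv]
    | succ j ih =>
      intro v hv
      rw [pow_succ, Module.End.mul_apply]
      exact ih _ (hshift j v hv)
  refine ⟨Module.finrank k S, ?_⟩
  have hval : ∀ (j : ℕ) (v : S), (((hit (V := S) (A := A) δ) ^ j) v : A) = ((hit (V := A) δ) ^ j) (v : A) := by
    intro j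
    induction j with
    | zero => intro v; simp
    | succ j ih =>
      intro v
      rw [pow_succ, pow_succ, Module.End.mul_apply, Module.End.mul_apply, ih]
      exact congrArg _ (hit_restr (isSubcomod_orbit a) δ v)
  have h := hpow (Module.finrank k S) ⟨a, mem_orbit_self a⟩ (by rw [htop]; exact Submodule.mem_top)
  rw [← hval _ ⟨a, mem_orbit_self a⟩, h, Submodule.coe_zero]

variable (p : ℕ) [hp : Fact p.Prime] [CharP k p]

include p hp

/-- Without `μ_p` all derivations act nilpotently. -/
theorem nilDer_of_no_mu [IsAlgClosed k] [Algebra.FiniteType k A]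
    (h : ¬ ∃ φ : A →ₐc[k] MonoidAlgebra k (Multiplicative (ZMod p)), Function.Surjective φ) : NilDer k A := by
  intro δ hδ a
  haveI := isHopfIdeal_derIdeal hδ
  haveI := isCocomm_derIdeal hδ
  haveI : Algebra.FiniteType k (A ⧸ derIdeal hδ) :=
    Algebra.FiniteType.of_surjective (Ideal.Quotient.mkₐ k (derIdeal hδ)) Ideal.Quotient.mk_surjective
  refine isNilpotent_of_derIdeal hδ ?_ a
  by_contra hne
  obtain ⟨n, φ, hn, hφ⟩ := exists_muN_of_cocomm hne
  let π : A →ₐc[k] A ⧸ derIdeal hδ := Bialgebra.Quotient.mkBialgHom (R := k) _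
  have hsurj : Function.Surjective (φ.comp π) := hφ.comp Ideal.Quotient.mk_surjective
  suffices hnp : n = p by subst hnp; exact h ⟨φ.comp π, hsurj⟩
  haveI := Fact.mk hn
  haveI : CharP (MonoidAlgebra k (Multiplicative (ZMod n))) p :=
    charP_alg (k := k) (A := MonoidAlgebra k (Multiplicative (ZMod n)))
  let g : Multiplicative (ZMod n) := Multiplicative.ofAdd 1
  obtain ⟨b, hb⟩ := hsurj (MonoidAlgebra.single g (1 : k) - 1)
  have hb0 : counit (R := k) b = 0 := by
    rw [← CoalgHomClass.counit_comp_apply (φ.comp π) b, hb, map_sub, Bialgebra.counit_one,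
      (MonoidAlgebra.isGroupLikeElem_single_one (R := k) g).counit_eq_one, sub_self]
  have h1 : (φ.comp π) (b ^ p) = 0 := by
    show φ (π (b ^ p)) = 0
    rw [show π (b ^ p) = 0 from Ideal.Quotient.eq_zero_iff_mem.2 (pow_char_mem_derIdeal p hδ hb0), map_zero]
  rw [map_pow, hb, sub_pow_char, one_pow, sub_eq_zero, MonoidAlgebra.single_pow, one_pow, MonoidAlgebra.one_def] at h1
  have h2 : g ^ p = 1 := MonoidAlgebra.single_left_injective (one_ne_zero (α := k)) h1
  have h3 : (p : ZMod n) = 0 := by
    have := congrArg Multiplicative.toAdd h2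
    rwa [toAdd_pow, toAdd_one, nsmul_eq_mul, show Multiplicative.toAdd g = 1 from rfl, mul_one] at this
  exact (Nat.prime_dvd_prime_iff_eq hn hp.out).1 ((ZMod.natCast_eq_zero_iff p n).1 h3)

/-- With nilpotent derivations there is no `μ_p`. -/
theorem not_surjective_of_nilDer (hN : NilDer k A)
    (φ : A →ₐc[k] MonoidAlgebra k (Multiplicative (ZMod p))) : ¬ Function.Surjective φ := fun hφ => by
  let c : ZMod p →+* k := ZMod.castHom dvd_rfl k
  let δ : MonoidAlgebra k (Multiplicative (ZMod p)) →ₗ[k] k :=
    (MonoidAlgebra.basis (Multiplicative (ZMod p)) k).constr k fun g => c g.toAdd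
  have hs : ∀ (g : Multiplicative (ZMod p)) (r : k), δ (MonoidAlgebra.single g r) = r * c g.toAdd := fun g r => by
    rw [show MonoidAlgebra.single g r = r • (MonoidAlgebra.basis (Multiplicative (ZMod p)) k) g by simp,
      map_smul, Module.Basis.constr_basis, smul_eq_mul]
  have hε : ∀ (g : Multiplicative (ZMod p)) (r : k), counit (R := k) (MonoidAlgebra.single g r) = r := fun g r => by
    simp
  have hδ : IsEpsDer δ := fun a b => by
    induction a using MonoidAlgebra.induction_linear with
    | zero => simp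
    | add x y hx hy => simp only [add_mul, map_add, hx, hy]; ring
    | single g r =>
      induction b using MonoidAlgebra.induction_linear with
      | zero => simp
      | add x y hx hy => simp only [mul_add, map_add, hx, hy]; ring
      | single g' r' =>
        rw [MonoidAlgebra.single_mul_single, hs, hs, hs, hε, hε, toAdd_mul, map_add]
        ring
  let g : Multiplicative (ZMod p) := Multiplicative.ofAdd 1
  have hg : hit (V := MonoidAlgebra k (Multiplicative (ZMod p))) δ (MonoidAlgebra.single g 1) =
      MonoidAlgebra.single g 1 := by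
    rw [hit_regular, (MonoidAlgebra.isGroupLikeElem_single_one (R := k) g).comul_eq_tmul_self, sliceR_tmul, hs,
      one_mul, show Multiplicative.toAdd g = 1 from rfl, _root_.map_one, one_smul]
  obtain ⟨n, hn⟩ := nilDer_of_surjective φ hφ hN δ hδ (MonoidAlgebra.single g 1)
  have hfix : ∀ n : ℕ, ((hit (V := MonoidAlgebra k (Multiplicative (ZMod p))) δ) ^ n) (MonoidAlgebra.single g 1) =
      MonoidAlgebra.single g 1 := by
    intro n
    induction n with
    | zero => simp
    | succ n ih => rw [pow_succ, Module.End.mul_apply, hg, ih]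
  rw [hfix, MonoidAlgebra.single_eq_zero] at hn
  exact one_ne_zero hn

end Groth.Agent.CohDer1.NoMu
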