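import Groth.Agent.HopfQuot.UnipotentCrit
import Mathlib.Algebra.Lie.Engel
import Mathlib.Algebra.Lie.OfAssociative

/-!
# Derivations at the counit acting on comodules
-/

set_option autoImplicit false

noncomputable section

open TensorProduct HopfRep
open Groth.Agent.HopfLib Groth.Agent.HopfQuot
open Coalgebra (comul counit)

universe u v w

namespace Groth.Agent.CohDer1.NoMu

variable {k : Type u} [Field k] {A : Type v} [CommRing A] [Bialgebra k A]

/-- A derivation at the counit. -/
def IsEpsDer (f : A →ₗ[k] k) : Prop :=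
  ∀ a b : A, f (a * b) = counit (R := k) a * f b + counit (R := k) b * f a

theorem IsEpsDer.map_one {f : A →ₗ[k] k} (hf : IsEpsDer f) : f 1 = 0 := by
  have := hf 1 1
  rw [mul_one, Bialgebra.counit_one, one_mul] at this
  linear_combination this.symm

theorem IsEpsDer.hit_mul {f : A →ₗ[k] k} (hf : IsEpsDer f) (a b : A) :
    hit (V := A) f (a * b) = a * hit (V := A) f b + b * hit (V := A) f a := by
  rw [hit_regular, hit_regular, hit_regular, Bialgebra.comul_mul]
  have e : ∀ s t : A ⊗[k] A, sliceR f (s * t) =
      sliceR (counit (R := k) (A := A)) s * sliceR f t + sliceR (counit (R := k) (A := A)) t * sliceR f s := by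
    intro s t
    induction s using TensorProduct.induction_on with
    | zero => simp
    | add p q hp hq => simp only [add_mul, map_add, mul_add, hp, hq]; abel
    | tmul a b =>
      induction t using TensorProduct.induction_on with
      | zero => simp
      | add p q hp hq => simp only [mul_add, map_add, add_mul, hp, hq]; abel
      | tmul c d =>
        simp only [Algebra.TensorProduct.tmul_mul_tmul, sliceR_tmul, hf b d, smul_mul_smul_comm, mul_comm c a]
        rw [add_smul, mul_comm (counit (R := k) d)]
  rw [e]
  simp only [← hit_regular]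
  rw [hit_counit, hit_counit]

theorem counit_hit' (f : A →ₗ[k] k) (a : A) : counit (R := k) (hit (V := A) f a) = f a := counit_hit f a

theorem formMul_apply (f g : A →ₗ[k] k) (a : A) : formMul f g a = f (hit (V := A) g a) := by
  simp only [formMul, LinearMap.comp_apply, hit_regular]
  generalize comul (R := k) a = t
  induction t using TensorProduct.induction_on with
  | zero => simp
  | add p q hp hq => simp only [map_add, hp, hq]
  | tmul p q => simp [mul_comm]

theorem hit_zero {V : Type w} [AddCommGroup V] [Module k V] [Comod k A V] (x : V) :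
    hit (0 : A →ₗ[k] k) x = 0 := by
  have := hit_smul (0 : k) (0 : A →ₗ[k] k) x
  rwa [zero_smul, zero_smul] at this

theorem hit_sub {V : Type w} [AddCommGroup V] [Module k V] [Comod k A V] (f g : A →ₗ[k] k) (x : V) :
    hit (f - g) x = hit f x - hit g x := by
  rw [sub_eq_add_neg, hit_add, ← neg_one_smul k g, hit_smul, neg_one_smul, ← sub_eq_add_neg]

theorem IsEpsDer.add {f g : A →ₗ[k] k} (hf : IsEpsDer f) (hg : IsEpsDer g) : IsEpsDer (f + g) := fun a b => by
  simp only [LinearMap.add_apply, hf a b, hg a b]; ring

theorem IsEpsDer.smul {f : A →ₗ[k] k} (c : k) (hf : IsEpsDer f) : IsEpsDer (c • f) := fun a b => by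
  simp only [LinearMap.smul_apply, smul_eq_mul, hf a b]; ring

theorem isEpsDer_zero : IsEpsDer (0 : A →ₗ[k] k) := fun a b => by simp

theorem IsEpsDer.bracket {f g : A →ₗ[k] k} (hf : IsEpsDer f) (hg : IsEpsDer g) :
    IsEpsDer (formMul f g - formMul g f) := fun a b => by
  simp only [LinearMap.sub_apply, formMul_apply, hg.hit_mul, hf.hit_mul, map_add]
  rw [hf a, hf b, hg a, hg b, counit_hit', counit_hit', counit_hit', counit_hit']
  ring

theorem IsEpsDer.comp {B : Type w} [CommRing B] [Bialgebra k B] (π : A →ₐc[k] B) {f : B →ₗ[k] k} (hf : IsEpsDer f) :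
    IsEpsDer (f ∘ₗ (π : A →ₐ[k] B).toLinearMap) := fun a b => by
  show f ((π : A →ₐ[k] B) (a * b)) = _
  rw [map_mul]
  refine (hf _ _).trans ?_
  show counit (R := k) (π a) * f (π b) + counit (R := k) (π b) * f (π a) = _
  rw [CoalgHomClass.counit_comp_apply π a, CoalgHomClass.counit_comp_apply π b]
  rfl

variable (k A) in
/-- All derivations at the counit act locally nilpotently. -/
def NilDer : Prop := ∀ f : A →ₗ[k] k, IsEpsDer f → ∀ a : A, ∃ n : ℕ, ((hit (V := A) f) ^ n) a = 0

/-- All derivations at the counit act nilpotently in representations. -/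
theorem NilDer.isNilpotent (h : NilDer k A) {V : Type w} [AddCommGroup V] [Module k V] [Comod k A V]
    [Module.Finite k V] {f : A →ₗ[k] k} (hf : IsEpsDer f) : IsNilpotent (hit (V := V) f) := by
  classical
  have key : ∀ (g : V →ₗ[k] k) (n : ℕ) (x : V),
      cf (A := A) g (((hit (V := V) f) ^ n) x) = ((hit (V := A) f) ^ n) (cf (A := A) g x) := by
    intro g n
    induction n with
    | zero => intro x; simp
    | succ n ih =>
      intro x
      rw [pow_succ', pow_succ', Module.End.mul_apply, Module.End.mul_apply, ← ih,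
        ← IsComodHom.hit_apply (isComodHom_cf (A := A) g)]
  let b := Module.Free.chooseBasis k V
  have hex : ∀ p : Module.Free.ChooseBasisIndex k V × Module.Free.ChooseBasisIndex k V,
      ∃ n, ((hit (V := A) f) ^ n) (cf (A := A) (b.coord p.1) (b p.2)) = 0 := fun p => h f hf _
  choose n hn using hex
  refine ⟨Finset.univ.sup n, b.ext fun i => ?_⟩
  rw [LinearMap.zero_apply]
  by_contra hne
  obtain ⟨g, hg⟩ := exists_cf_ne_zero (k := k) (A := A) hne
  refine hg ?_
  have hg' : g = ∑ j, g (b j) • b.coord j := (b.sum_dual_apply_smul_coord g).symm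
  rw [key, hg']
  have e : cf (A := A) (∑ j, g (b j) • b.coord j) (b i) = ∑ j, g (b j) • cf (A := A) (b.coord j) (b i) := by
    simp only [cf_apply]
    generalize Comod.coact (k := k) (A := A) (b i) = t
    induction t using TensorProduct.induction_on with
    | zero => simp
    | add p q hp hq => simp only [map_add, hp, hq, smul_add, Finset.sum_add_distrib]
    | tmul p q =>
      simp [Finset.sum_smul, smul_smul]
      rw [← Finset.sum_smul]
      congr 1
      conv_lhs => rw [← b.sum_repr p, map_sum]
      refine Finset.sum_congr rfl fun x _ => ?_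
      rw [map_smul, smul_eq_mul, mul_comm]
  rw [e, map_sum]
  refine Finset.sum_eq_zero fun j _ => ?_
  rw [map_smul]
  have hle : n (j, i) ≤ Finset.univ.sup n := Finset.le_sup (Finset.mem_univ _)
  rw [← Nat.sub_add_cancel hle, pow_add, Module.End.mul_apply, hn (j, i), map_zero, smul_zero]

/-- Engel: a common null vector of all derivations at the counit. -/
theorem exists_common_null (h : NilDer k A) {V : Type w} [AddCommGroup V] [Module k V] [Comod k A V]
    [Module.Finite k V] [Nontrivial V] :
    ∃ x : V, x ≠ 0 ∧ ∀ f : A →ₗ[k] k, IsEpsDer f → hit f x = 0 := by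
  classical
  letI : LieRing (Module.End k V) := LieRing.ofAssociativeRing
  letI : LieAlgebra k (Module.End k V) := LieAlgebra.ofAssociativeAlgebra
  let L : LieSubalgebra k (Module.End k V) :=
    { carrier := {T | ∃ f : A →ₗ[k] k, IsEpsDer f ∧ T = hit (V := V) f}
      add_mem' := by
        rintro _ _ ⟨f, hf, rfl⟩ ⟨g, hg, rfl⟩
        exact ⟨f + g, hf.add hg, LinearMap.ext fun x => (hit_add f g x).symm⟩
      zero_mem' := ⟨0, isEpsDer_zero, LinearMap.ext fun x => (hit_zero (A := A) x).symm⟩
      smul_mem' := by
        rintro c _ ⟨f, hf, rfl⟩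
        exact ⟨c • f, hf.smul c, LinearMap.ext fun x => (hit_smul c f x).symm⟩
      lie_mem' := by
        rintro _ _ ⟨f, hf, rfl⟩ ⟨g, hg, rfl⟩
        refine ⟨formMul f g - formMul g f, hf.bracket hg, LinearMap.ext fun x => ?_⟩
        rw [hit_sub, ← hit_hit, ← hit_hit]
        rfl }
  haveI : LieModule.IsNilpotent L V := by
    refine (LieModule.isNilpotent_iff_forall (R := k)).2 fun T => ?_
    obtain ⟨f, hf, hT⟩ := T.2
    have : LieModule.toEnd k L V T = hit (V := V) f := LinearMap.ext fun x => by
      show (T : Module.End k V) x = _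
      rw [hT]
    rw [this]
    exact h.isNilpotent hf
  haveI := LieModule.nontrivial_max_triv_of_isNilpotent k L V
  obtain ⟨x, hx⟩ := exists_ne (0 : LieModule.maxTrivSubmodule k L V)
  refine ⟨x, fun h0 => hx (Subtype.ext h0), fun f hf => ?_⟩
  exact (LieModule.mem_maxTrivSubmodule k L V (x : V)).1 x.2 ⟨hit (V := V) f, f, hf, rfl⟩

end Groth.Agent.CohDer1.NoMu
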