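import Groth.Agent.CohDer1.NoMu.Deriv
import Mathlib.RingTheory.MvPolynomial.EulerIdentity
import Mathlib.RingTheory.MvPolynomial.Homogeneous
import Mathlib.Algebra.MvPolynomial.PDeriv
import Mathlib.Algebra.CharP.Basic
import Mathlib.RingTheory.Nilpotent.Lemmas
import Mathlib.LinearAlgebra.Basis.VectorSpace

/-!
# Height one groups
-/

set_option autoImplicit false

noncomputable section

open TensorProduct HopfRep
open Groth.Agent.HopfLib Groth.Agent.HopfQuot
open Coalgebra (comul counit)

universe u v

namespace Groth.Agent.CohDer1.NoMu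

variable {k : Type u} [Field k] {A : Type v} [CommRing A] [Bialgebra k A]

variable (k A) in
/-- The augmentation ideal. -/
abbrev aug : Ideal A := RingHom.ker (Bialgebra.counitAlgHom k A)

theorem mem_aug {a : A} : a ∈ aug k A ↔ counit (R := k) a = 0 := Iff.rfl

theorem IsEpsDer.hit_mem_pow {f : A →ₗ[k] k} (hf : IsEpsDer f) :
    ∀ (n : ℕ), ∀ a ∈ aug k A ^ (n + 1), hit (V := A) f a ∈ aug k A ^ n := by
  intro n
  induction n with
  | zero => intro a _; simp
  | succ n ih =>
    intro a ha
    rw [pow_succ] at ha
    induction ha using Submodule.mul_induction_on' with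
    | mem_mul_mem b hb c hc =>
      rw [hf.hit_mul]
      refine add_mem (Ideal.mul_mem_right _ _ hb) ?_
      rw [pow_succ']
      exact Ideal.mul_mem_mul hc (ih b hb)
    | add x _ y _ hx hy => rw [map_add]; exact add_mem hx hy

/-- Coordinates at the origin. -/
theorem exists_coords : ∃ (ι : Type v) (x : ι → A) (D : ι → (A →ₗ[k] k)),
    (∀ i, x i ∈ aug k A) ∧ (∀ i, IsEpsDer (D i)) ∧ (∀ i, D i (x i) = 1) ∧ (∀ i l, i ≠ l → D i (x l) = 0) ∧
      ∀ a ∈ aug k A, ∃ P : MvPolynomial ι k,
        P.IsHomogeneous 1 ∧ a - MvPolynomial.aeval x P ∈ aug k A ^ 2 := by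
  classical
  let N : Submodule k A := Submodule.span k {(1 : A)} ⊔ ((aug k A ^ 2).restrictScalars k)
  let b := Module.Free.chooseBasis k (A ⧸ N)
  choose y hy using fun i => N.mkQ_surjective (b i)
  let x : Module.Free.ChooseBasisIndex k (A ⧸ N) → A := fun i => y i - algebraMap k A (counit (R := k) (y i))
  have hN1 : ∀ c : k, N.mkQ (algebraMap k A c) = 0 := fun c => by
    rw [Submodule.mkQ_apply, Submodule.Quotient.mk_eq_zero, Algebra.algebraMap_eq_smul_one]
    exact Submodule.smul_mem _ _ (Submodule.mem_sup_left (Submodule.mem_span_singleton_self 1))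
  have hx : ∀ i, N.mkQ (x i) = b i := fun i => by rw [map_sub, hN1, sub_zero, hy]
  have hxm : ∀ i, x i ∈ aug k A := fun i => by
    rw [mem_aug, map_sub, Bialgebra.counit_algebraMap, sub_self]
  refine ⟨_, x, fun i => b.coord i ∘ₗ N.mkQ, hxm, fun i a c => ?_, fun i => ?_, fun i l hil => ?_, fun a ha => ?_⟩
  · show b.coord i (N.mkQ (a * c)) = counit (R := k) a • b.coord i (N.mkQ c) + counit (R := k) c • b.coord i (N.mkQ a)
    rw [← map_smul, ← map_smul, ← map_smul, ← map_smul, ← map_add, ← map_add]
    congr 1
    rw [Submodule.mkQ_apply, Submodule.mkQ_apply, Submodule.Quotient.eq]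
    have e : a * c - (counit (R := k) a • c + counit (R := k) c • a) =
        (a - algebraMap k A (counit (R := k) a)) * (c - algebraMap k A (counit (R := k) c)) -
          algebraMap k A (counit (R := k) a * counit (R := k) c) := by
      rw [Algebra.smul_def, Algebra.smul_def, map_mul]; ring
    rw [e]
    refine sub_mem (Submodule.mem_sup_right ?_) ((Submodule.Quotient.mk_eq_zero N).1 (hN1 _))
    show _ ∈ aug k A ^ 2
    rw [pow_two]
    exact Ideal.mul_mem_mul (by rw [mem_aug, map_sub, Bialgebra.counit_algebraMap, sub_self])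
      (by rw [mem_aug, map_sub, Bialgebra.counit_algebraMap, sub_self])
  · show b.coord i (N.mkQ (x i)) = 1
    rw [hx, Module.Basis.coord_apply, Module.Basis.repr_self, Finsupp.single_eq_same]
  · show b.coord i (N.mkQ (x l)) = 0
    rw [hx, Module.Basis.coord_apply, Module.Basis.repr_self, Finsupp.single_eq_of_ne hil]
  · refine ⟨(b.repr (N.mkQ a)).sum fun i c => MvPolynomial.C c * MvPolynomial.X i, ?_, ?_⟩
    · refine MvPolynomial.IsHomogeneous.sum _ _ _ fun i _ => ?_
      simpa using (MvPolynomial.isHomogeneous_C _ _).mul (MvPolynomial.isHomogeneous_X k i)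
    · set w := a - MvPolynomial.aeval x ((b.repr (N.mkQ a)).sum fun i c => MvPolynomial.C c * MvPolynomial.X i)
      have hw : w ∈ N := by
        rw [← Submodule.Quotient.mk_eq_zero, ← Submodule.mkQ_apply, map_sub, map_finsuppSum, map_finsuppSum,
          sub_eq_zero]
        conv_lhs => rw [← b.linearCombination_repr (N.mkQ a), Finsupp.linearCombination_apply]
        refine Finsupp.sum_congr fun i _ => ?_
        rw [map_mul, MvPolynomial.aeval_C, MvPolynomial.aeval_X, ← Algebra.smul_def, map_smul, hx]
      obtain ⟨_, hc, z, hz, he⟩ := Submodule.mem_sup.1 hw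
      obtain ⟨c, rfl⟩ := Submodule.mem_span_singleton.1 hc
      have hwm : w ∈ aug k A := by
        refine sub_mem ha ?_
        rw [map_finsuppSum]
        refine Ideal.sum_mem _ fun i _ => ?_
        dsimp only
        rw [map_mul, MvPolynomial.aeval_X]
        exact Ideal.mul_mem_left _ _ (hxm i)
      have hz' : counit (R := k) z = 0 := mem_aug.1 (Ideal.pow_le_self two_ne_zero hz)
      have h0 := mem_aug.1 hwm
      rw [← he, map_add, map_smul, Bialgebra.counit_one, hz', add_zero, smul_eq_mul, mul_one] at h0
      rw [← he, h0, zero_smul, zero_add]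
      exact hz

/-- In height one a function killed by all invariant derivations is constant. -/
theorem eq_zero_of_forall_hit {p : ℕ} [Fact p.Prime] [CharP k p] (hp : ∀ a ∈ aug k A, a ^ p = 0)
    [IsNoetherianRing A] {c : A} (hc : c ∈ aug k A) (h : ∀ f : A →ₗ[k] k, IsEpsDer f → hit (V := A) f c = 0) :
    c = 0 := by
  classical
  obtain ⟨ι, x, D, hxm, hD, hDii, hDil, hgen⟩ := exists_coords (k := k) (A := A)
  let S : ℕ → Submodule k (MvPolynomial ι k) := MvPolynomial.homogeneousSubmodule ι k
  -- every element of a power of the augmentation ideal has a leading form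
  have hlead : ∀ j, ∀ a ∈ aug k A ^ j, ∃ P ∈ S j, a - MvPolynomial.aeval x P ∈ aug k A ^ (j + 1) := by
    intro j
    induction j with
    | zero =>
      intro a _
      refine ⟨MvPolynomial.C (counit (R := k) a), MvPolynomial.isHomogeneous_C _ _, ?_⟩
      rw [MvPolynomial.aeval_C, pow_one, mem_aug, map_sub, Bialgebra.counit_algebraMap, sub_self]
    | succ j ih =>
      intro a ha
      rw [pow_succ] at ha
      induction ha using Submodule.mul_induction_on' with
      | mem_mul_mem u hu v hv =>
        obtain ⟨P, hP, hu'⟩ := ih u hu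
        obtain ⟨Q, hQ, hv'⟩ := hgen v hv
        refine ⟨P * Q, MvPolynomial.IsHomogeneous.mul hP hQ, ?_⟩
        rw [map_mul, show u * v - MvPolynomial.aeval x P * MvPolynomial.aeval x Q =
          (u - MvPolynomial.aeval x P) * v + MvPolynomial.aeval x P * (v - MvPolynomial.aeval x Q) by ring]
        refine add_mem ?_ ?_
        · rw [pow_succ]; exact Ideal.mul_mem_mul hu' hv
        · rw [show j + 1 + 1 = j + 2 from rfl, pow_add]
          refine Ideal.mul_mem_mul ?_ hv'
          have := sub_mem hu (Ideal.pow_le_pow_right (Nat.le_succ j) hu')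
          rwa [sub_sub_cancel] at this
      | add u _ v _ hu hv =>
        obtain ⟨P, hP, hu'⟩ := hu
        obtain ⟨Q, hQ, hv'⟩ := hv
        refine ⟨P + Q, add_mem hP hQ, ?_⟩
        rw [map_add, add_sub_add_comm]
        exact add_mem hu' hv'
  -- homogeneous forms and their derivatives
  have hhom : ∀ j, ∀ P ∈ S j, MvPolynomial.aeval x P ∈ aug k A ^ j ∧
      ∀ i, hit (V := A) (D i) (MvPolynomial.aeval x P) - MvPolynomial.aeval x (MvPolynomial.pderiv i P) ∈
        aug k A ^ j := by
    intro j
    induction j with
    | zero => intro P _; simp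
    | succ j ih =>
      intro P hP
      have hP' : P ∈ S j * S 1 := by
        rw [show S (j + 1) = S 1 ^ (j + 1) from (MvPolynomial.homogeneousSubmodule_one_pow (σ := ι) (R := k) (j + 1)).symm, pow_succ,
          show S 1 ^ j = S j from MvPolynomial.homogeneousSubmodule_one_pow (σ := ι) (R := k) j] at hP
        exact hP
      clear hP
      induction hP' using Submodule.mul_induction_on' with
      | mem_mul_mem U hU V hV =>
        have hV' : V ∈ Submodule.span k (Set.range (MvPolynomial.X : ι → MvPolynomial ι k)) := by
          rw [← MvPolynomial.homogeneousSubmodule_one_eq_span_X]; exact hV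
        clear hV
        induction hV' using Submodule.span_induction with
        | mem V hV =>
          obtain ⟨l, rfl⟩ := hV
          obtain ⟨hU1, hU2⟩ := ih U hU
          refine ⟨?_, fun i => ?_⟩
          · rw [map_mul, MvPolynomial.aeval_X, pow_succ]
            exact Ideal.mul_mem_mul hU1 (hxm l)
          · rw [map_mul, MvPolynomial.aeval_X, (hD i).hit_mul, MvPolynomial.pderiv_mul, map_add, map_mul, map_mul,
              MvPolynomial.aeval_X]
            have h1 : hit (V := A) (D i) (x l) - MvPolynomial.aeval x (MvPolynomial.pderiv i (MvPolynomial.X (R := k) l)) ∈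
                aug k A := by
              rw [mem_aug, map_sub, counit_hit', MvPolynomial.pderiv_X]
              by_cases hil : i = l
              · subst hil; simp [hDii]
              · rw [Pi.single_eq_of_ne (Ne.symm hil), map_zero, map_zero, hDil i l hil, sub_zero]
            rw [show MvPolynomial.aeval x U * hit (V := A) (D i) (x l) +
                x l * hit (V := A) (D i) (MvPolynomial.aeval x U) -
                (MvPolynomial.aeval x (MvPolynomial.pderiv i U) * x l +
                  MvPolynomial.aeval x U * MvPolynomial.aeval x (MvPolynomial.pderiv i (MvPolynomial.X l))) =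
              MvPolynomial.aeval x U *
                  (hit (V := A) (D i) (x l) - MvPolynomial.aeval x (MvPolynomial.pderiv i (MvPolynomial.X l))) +
                x l * (hit (V := A) (D i) (MvPolynomial.aeval x U) -
                  MvPolynomial.aeval x (MvPolynomial.pderiv i U)) by ring]
            refine add_mem ?_ ?_
            · rw [pow_succ]; exact Ideal.mul_mem_mul hU1 h1
            · rw [pow_succ']; exact Ideal.mul_mem_mul (hxm l) (hU2 i)
        | zero => simp
        | add V W _ _ hV hW =>
          refine ⟨by rw [mul_add, map_add]; exact add_mem hV.1 hW.1, fun i => ?_⟩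
          rw [mul_add, map_add, map_add, map_add, map_add, add_sub_add_comm]
          exact add_mem (hV.2 i) (hW.2 i)
        | smul r V _ hV =>
          refine ⟨by rw [mul_smul_comm, map_smul]; exact Submodule.smul_of_tower_mem _ r hV.1, fun i => ?_⟩
          rw [mul_smul_comm, map_smul, map_smul, Derivation.map_smul, map_smul, ← smul_sub]
          exact Submodule.smul_of_tower_mem _ r (hV.2 i)
      | add U _ V _ hU hV =>
        refine ⟨by rw [map_add]; exact add_mem hU.1 hV.1, fun i => ?_⟩
        rw [map_add, map_add, map_add, map_add, add_sub_add_comm]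
        exact add_mem (hU.2 i) (hV.2 i)
  -- the monomials of small exponents are independent modulo higher powers
  have hind : ∀ j, ∀ P ∈ S j, (∀ s ∈ P.support, ∀ i, s i < p) →
      MvPolynomial.aeval x P ∈ aug k A ^ (j + 1) → P = 0 := by
    intro j
    induction j with
    | zero =>
      intro P hP _ h0
      obtain ⟨r, rfl⟩ : ∃ r, P = MvPolynomial.C r := ⟨_, (MvPolynomial.totalDegree_eq_zero_iff_eq_C).1
        (Nat.le_zero.1 ((MvPolynomial.mem_homogeneousSubmodule 0 P).1 hP).totalDegree_le)⟩
      rw [MvPolynomial.aeval_C, pow_one, mem_aug, Bialgebra.counit_algebraMap] at h0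
      rw [h0, map_zero]
    | succ j ih =>
      intro P hP hsmall h0
      have hd : ∀ i, MvPolynomial.pderiv i P = 0 := fun i => by
        refine ih _ (MvPolynomial.IsHomogeneous.pderiv hP) (fun s hs l => ?_) ?_
        · rw [MvPolynomial.mem_support_iff, MvPolynomial.coeff_pderiv] at hs
          have hs' : s + Finsupp.single i 1 ∈ P.support :=
            MvPolynomial.mem_support_iff.2 fun h => hs (by rw [h]; simp)
          refine lt_of_le_of_lt ?_ (hsmall _ hs' l)
          simp
        · have h1 := (hhom (j + 1) P hP).2 i
          have h2 := (hD i).hit_mem_pow (j + 1) _ h0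
          have := sub_mem h2 h1
          rwa [sub_sub_cancel] at this
      refine MvPolynomial.ext _ _ fun s => ?_
      rw [MvPolynomial.coeff_zero]
      by_contra hs
      have hs' := MvPolynomial.mem_support_iff.2 hs
      obtain ⟨i, hi⟩ : ∃ i, s i ≠ 0 := by
        by_contra! hall
        have hs0 : s = 0 := Finsupp.ext hall
        have := hP hs
        rw [hs0] at this
        simp at this
      have h1 := congrArg (MvPolynomial.coeff (s - Finsupp.single i 1)) (hd i)
      rw [MvPolynomial.coeff_pderiv, MvPolynomial.coeff_zero,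
        tsub_add_cancel_of_le (Finsupp.single_le_iff.2 (Nat.one_le_iff_ne_zero.2 hi))] at h1
      have hcast : (((s - Finsupp.single i 1 : ι →₀ ℕ) i : k) + 1) ≠ 0 := by
        rw [← Nat.cast_add_one, Finsupp.tsub_apply, Finsupp.single_eq_same, Nat.sub_add_cancel
          (Nat.one_le_iff_ne_zero.2 hi)]
        intro h
        have := Nat.le_of_dvd (Nat.pos_of_ne_zero hi) ((CharP.cast_eq_zero_iff k p _).1 h)
        have := hsmall s hs' i
        omega
      exact hcast ((mul_eq_zero.1 h1).resolve_left hs)
  have hpow : ∀ j, c ∈ aug k A ^ (j + 1) := by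
    intro j
    induction j with
    | zero => rwa [pow_one]
    | succ j ih =>
      obtain ⟨P, hP, hres⟩ := hlead _ c ih
      let P' : MvPolynomial ι k :=
        ∑ s ∈ P.support.filter (fun s => ∀ i, s i < p), MvPolynomial.monomial s (MvPolynomial.coeff s P)
      have hcoeff : ∀ s, MvPolynomial.coeff s P' = if ∀ i, s i < p then MvPolynomial.coeff s P else 0 := fun s => by
        simp only [P', MvPolynomial.coeff_sum, MvPolynomial.coeff_monomial, Finset.sum_ite_eq', Finset.mem_filter,
          MvPolynomial.mem_support_iff]
        by_cases hh : MvPolynomial.coeff s P = 0 <;> simp [hh]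
      have hP' : P' ∈ S (j + 1) := fun s hs => by
        rw [hcoeff] at hs
        split_ifs at hs with hh
        · exact hP hs
        · exact absurd rfl hs
      have haeq : MvPolynomial.aeval x P' = MvPolynomial.aeval x P := by
        conv_rhs => rw [P.as_sum]
        rw [map_sum, map_sum]
        refine Finset.sum_filter_of_ne fun s _ hne i => ?_
        by_contra! hge
        refine hne ?_
        have hsi : s i ≠ 0 := fun h0 => by
          have := (Fact.out : p.Prime).pos
          rw [h0] at hge
          omega
        rw [MvPolynomial.aeval_monomial, Finsupp.prod,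
          Finset.prod_eq_zero (f := fun l => x l ^ s l) (i := i) (Finsupp.mem_support_iff.2 hsi)
            (pow_eq_zero_of_le hge (hp _ (hxm i))), mul_zero]
      have hd : ∀ i, MvPolynomial.pderiv i P' = 0 := fun i => by
        refine hind j _ (MvPolynomial.IsHomogeneous.pderiv hP') (fun s hs l => ?_) ?_
        · rw [MvPolynomial.mem_support_iff, MvPolynomial.coeff_pderiv] at hs
          have hs' : MvPolynomial.coeff (s + Finsupp.single i 1) P' ≠ 0 := fun h => hs (by rw [h]; simp)
          rw [hcoeff] at hs'
          split_ifs at hs' with hh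
          · refine lt_of_le_of_lt ?_ (hh l); simp
          · exact absurd rfl hs'
        · have h1 := (hhom (j + 1) P' hP').2 i
          have h2 := (hD i).hit_mem_pow (j + 1) _ hres
          rw [map_sub, h _ (hD i), zero_sub, neg_mem_iff, ← haeq] at h2
          have := sub_mem h2 h1
          rwa [sub_sub_cancel] at this
      have hP0 : P' = 0 := by
        refine MvPolynomial.ext _ _ fun s => ?_
        rw [MvPolynomial.coeff_zero]
        by_contra hs
        obtain ⟨i, hi⟩ : ∃ i, s i ≠ 0 := by
          by_contra! hall
          have := hP' hs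
          rw [show s = 0 from Finsupp.ext hall] at this
          simp at this
        have h1 := congrArg (MvPolynomial.coeff (s - Finsupp.single i 1)) (hd i)
        rw [MvPolynomial.coeff_pderiv, MvPolynomial.coeff_zero,
          tsub_add_cancel_of_le (Finsupp.single_le_iff.2 (Nat.one_le_iff_ne_zero.2 hi))] at h1
        have hsm : ∀ i, s i < p := by
          by_contra hh
          rw [hcoeff, if_neg hh] at hs
          exact hs rfl
        suffices hcast : (((s - Finsupp.single i 1 : ι →₀ ℕ) i : k) + 1) ≠ 0 from
          hcast ((mul_eq_zero.1 h1).resolve_left hs)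
        rw [← Nat.cast_add_one, Finsupp.tsub_apply, Finsupp.single_eq_same, Nat.sub_add_cancel
          (Nat.one_le_iff_ne_zero.2 hi)]
        intro hh
        have := Nat.le_of_dvd (Nat.pos_of_ne_zero hi) ((CharP.cast_eq_zero_iff k p _).1 hh)
        have := hsm i
        omega
      rw [← haeq, hP0, map_zero, sub_zero] at hres
      exact hres
  obtain ⟨N, hN⟩ : IsNilpotent (aug k A) := (Ideal.FG.isNilpotent_iff_le_nilradical (IsNoetherian.noetherian _)).2
    fun a ha => ⟨p, hp a ha⟩
  have := Ideal.pow_le_pow_right (Nat.le_succ N) (hpow N)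
  rw [hN] at this
  simpa using this

/-- A height one group with nilpotent Lie algebra has a primitive function. -/
theorem exists_primitive_of_height_one {p : ℕ} [Fact p.Prime] [CharP k p] (hp : ∀ a ∈ aug k A, a ^ p = 0)
    [IsNoetherianRing A] (hN : NilDer k A) (hne : ∃ a : A, a ≠ algebraMap k A (counit (R := k) a)) :
    ∃ x : A, x ≠ 0 ∧ comul (R := k) x = x ⊗ₜ[k] (1 : A) + (1 : A) ⊗ₜ[k] x := by
  classical
  obtain ⟨a, ha⟩ := hne
  let S : Submodule k A := Submodule.span k {(1 : A)}
  have hS : IsSubcomod (k := k) (A := A) S := isSubcomod_iff_hit.2 fun g y hy => by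
    obtain ⟨c, rfl⟩ := Submodule.mem_span_singleton.1 hy
    rw [map_smul, hit_one]
    exact Submodule.smul_mem _ _ (Submodule.smul_mem _ _ (Submodule.mem_span_singleton_self 1))
  let cQ := ComodSub.Comod.quot (Comod.regular k A) S hS
  have hq : Hoch.IsComodHom A S.mkQ := ComodSub.isComodHom_mkQ (Comod.regular k A) S hS
  obtain ⟨U, hUfin, haU, hUs⟩ := exists_finite_subcomod (k := k) (A := A) ({S.mkQ a} : Set (A ⧸ S))
    (Set.finite_singleton _)
  let cU := ComodSub.Comod.restr cQ U hUs
  have : Nontrivial U := ⟨⟨⟨S.mkQ a, haU rfl⟩, 0, fun h => ha (by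
    obtain ⟨c, hc⟩ := Submodule.mem_span_singleton.1 ((Submodule.Quotient.mk_eq_zero S).1 (congrArg Subtype.val h))
    rw [← hc, map_smul, Bialgebra.counit_one, smul_eq_mul, mul_one, Algebra.algebraMap_eq_smul_one])⟩⟩
  obtain ⟨w, hw0, hw⟩ := exists_common_null hN (V := U)
  obtain ⟨y, hy⟩ := S.mkQ_surjective (w : A ⧸ S)
  let x := y - algebraMap k A (counit (R := k) y)
  have hS1 : ∀ c : k, algebraMap k A c ∈ S := fun c => by
    rw [Algebra.algebraMap_eq_smul_one]; exact Submodule.smul_mem _ _ (Submodule.mem_span_singleton_self 1)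
  have hxw : S.mkQ x = w := by
    rw [map_sub, hy, Submodule.mkQ_apply, (Submodule.Quotient.mk_eq_zero S).2 (hS1 _), sub_zero]
  have hxε : counit (R := k) x = 0 := by rw [map_sub, Bialgebra.counit_algebraMap, sub_self]
  refine ⟨x, fun h0 => hw0 (Subtype.ext (by rw [← hxw, h0, map_zero]; rfl)), ?_⟩
  have hhit : ∀ f : A →ₗ[k] k, IsEpsDer f → hit (V := A) f x = f x • (1 : A) := fun f hf => by
    have h1 : S.mkQ (hit (V := A) f x) = 0 := by
      rw [IsComodHom.hit_apply hq, hxw]
      refine ((hit_restr (c := cQ) hUs f w).symm.trans ?_)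
      rw [hw f hf]
      rfl
    obtain ⟨c, hc⟩ := Submodule.mem_span_singleton.1 ((Submodule.Quotient.mk_eq_zero S).1 h1)
    have h2 := counit_hit' f x
    rw [← hc, map_smul, Bialgebra.counit_one, smul_eq_mul, mul_one] at h2
    rw [← hc, h2]
  refine eq_of_forall_sliceL_eq fun g => ?_
  rw [map_add, sliceL_tmul, sliceL_tmul]
  have hkey : hitL g x - g x • (1 : A) - g 1 • x = 0 := by
    refine eq_zero_of_forall_hit hp ?_ fun f hf => ?_
    · rw [mem_aug, map_sub, map_sub, map_smul, map_smul, Bialgebra.counit_one, hxε, smul_zero, sub_zero,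
        smul_eq_mul, mul_one, sub_eq_zero]
      show counit (R := k) (sliceL g (comul (R := k) x)) = g x
      conv_rhs => rw [← hitR_counit (k := k) x]
      show _ = g (sliceR counit (comul (R := k) x))
      generalize comul (R := k) x = t
      induction t using TensorProduct.induction_on with
      | zero => simp
      | add p q hp hq => simp only [map_add, hp, hq]
      | tmul p q => simp [mul_comm]
    · rw [map_sub, map_sub, map_smul, map_smul, hit_one, hf.map_one, zero_smul, smul_zero, sub_zero, hhit f hf,
        show hit (V := A) f (hitL g x) = hitL g (hit (V := A) f x) from hitR_hitL f g x, hhit f hf, map_smul]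
      simp [hitL, Algebra.TensorProduct.one_def, smul_comm (g 1)]
  rw [sub_sub, sub_eq_zero] at hkey
  show hitL g x = _
  rw [hkey]

end Groth.Agent.CohDer1.NoMu
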