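import Groth.Agent.CohDer1.NoMu.BaseChange
import Groth.Prelude.Def_Lie2

/-!
# Derivations at the counit and the Lie algebra
-/

set_option autoImplicit false

noncomputable section

open TensorProduct HopfRep
open Groth.Agent.HopfLib Groth.Agent.HopfQuot
open Coalgebra (comul counit)

universe u

namespace Groth.Agent.CohDer1.NoMu

variable {k : Type u} [Field k] {A : Type u} [CommRing A] [HopfAlgebra k A]

theorem convPow_eq_iterAug (δ : A →ₗ[k] k) : ∀ n : ℕ, LieHopf.convPow δ n = iterAug δ n := by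
  intro n
  induction n with
  | zero => exact LinearMap.ext fun a => by simp [LieHopf.convPow, iterAug]
  | succ n ih =>
    refine LinearMap.ext fun a => ?_
    show formMul (LieHopf.convPow δ n) δ a = _
    rw [ih, formMul_apply, iterAug_succ]

theorem isEpsDer_lie (D : LieHopf.Lie k A) :
    IsEpsDer (D.toLinearMap.restrictScalars k ∘ₗ LinearMap.id : A →ₗ[k] k) := fun a b => D.leibniz a b

theorem exists_lie {f : A →ₗ[k] k} (hf : IsEpsDer f) :
    ∃ D : LieHopf.Lie k A, (D.toLinearMap.restrictScalars k ∘ₗ LinearMap.id : A →ₗ[k] k) = f := by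
  let f' : A →ₗ[k] LieHopf.K k A := f
  exact ⟨Derivation.mk' f' hf, rfl⟩

theorem forall_lie_iff_nilDer (p : ℕ) [hp : Fact p.Prime] [CharP k p] [Algebra.FiniteType k A] :
    (∀ D : LieHopf.Lie k A, ∃ n : ℕ, 0 < n ∧
      LieHopf.convPow (D.toLinearMap.restrictScalars k ∘ₗ LinearMap.id) (p ^ n) = 0) ↔ NilDer k A := by
  constructor
  · intro h f hf a
    obtain ⟨D, hD⟩ := exists_lie hf
    obtain ⟨n, -, hn⟩ := h D
    rw [hD, convPow_eq_iterAug] at hn
    exact ⟨p ^ n, by rw [← hit_iterAug, hn, hit_zero]⟩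
  · intro h D
    obtain ⟨n, hn, hn'⟩ := exists_iterAug_pow_eq_zero p (isEpsDer_lie D) (fun a => h _ (isEpsDer_lie D) a)
    exact ⟨n, hn, (convPow_eq_iterAug _ _).trans hn'⟩

/-- A unipotent group has nilpotent Lie algebra. -/
theorem nilDer_of_isUnipotent (hU : IsUnipotent k A) : NilDer k A := fun f hf a => by
  haveI := isHopfIdeal_derIdeal hf
  exact isNilpotent_of_derIdeal hf
    (isUnipotent_of_surjective (Bialgebra.Quotient.mkBialgHom (R := k) (derIdeal hf)) Ideal.Quotient.mk_surjective hU) a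

end Groth.Agent.CohDer1.NoMu
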