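import Groth.Agent.CohDer1.NoMu.Infinitesimal
import Groth.Agent.HopfLib.UnipotentPoints
import Groth.Agent.HopfLib.Kolchin
import Groth.Agent.HopfLib.ComodSubcoalg
import Mathlib.RingTheory.Filtration
import Mathlib.RingTheory.Jacobson.Ring
import Mathlib.FieldTheory.IsAlgClosed.Basic

/-!
# Groups with nilpotent Lie algebra over an algebraically closed field
-/

set_option autoImplicit false

noncomputable section

open TensorProduct HopfRep WithConv
open Groth.Agent.HopfLib Groth.Agent.HopfQuot
open Coalgebra (comul counit)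

universe u

namespace Groth.Agent.CohDer1.NoMu

variable {k : Type u} [Field k] {A : Type u} [CommRing A] [HopfAlgebra k A]

/-- Left translation by a point. -/
def transL (g : A →ₐ[k] k) : A →ₐ[k] A :=
  (Algebra.TensorProduct.lift ((Algebra.ofId k A).comp g) (AlgHom.id k A) fun _ _ => Commute.all _ _).comp
    (Bialgebra.comulAlgHom k A)

/-- Right translation by a point. -/
def transR (g : A →ₐ[k] k) : A →ₐ[k] A :=
  (Algebra.TensorProduct.lift (AlgHom.id k A) ((Algebra.ofId k A).comp g) fun _ _ => Commute.all _ _).comp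
    (Bialgebra.comulAlgHom k A)

theorem transL_apply (g : A →ₐ[k] k) (x : A) : transL g x = hitL g.toLinearMap x := by
  simp only [transL, hitL, AlgHom.comp_apply, Bialgebra.comulAlgHom_apply, LinearMap.comp_apply]
  generalize comul (R := k) x = t
  induction t using TensorProduct.induction_on with
  | zero => simp
  | add p q hp hq => simp only [map_add, hp, hq]
  | tmul a b => simp [Algebra.smul_def, Algebra.ofId_apply]

theorem transR_apply (g : A →ₐ[k] k) (x : A) : transR g x = hitR g.toLinearMap x := by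
  simp only [transR, hitR, AlgHom.comp_apply, Bialgebra.comulAlgHom_apply, LinearMap.comp_apply]
  generalize comul (R := k) x = t
  induction t using TensorProduct.induction_on with
  | zero => simp
  | add p q hp hq => simp only [map_add, hp, hq]
  | tmul a b => simp [Algebra.smul_def, Algebra.ofId_apply, mul_comm]

theorem counit_transR (g : A →ₐ[k] k) (x : A) : counit (R := k) (transR g x) = g x := by
  rw [transR_apply]
  show counit (R := k) (sliceR g.toLinearMap (comul (R := k) x)) = _
  rw [← hit_regular]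
  exact counit_hit _ _

theorem apply_transL_inv (g : A →ₐ[k] k) (x : A) :
    g (transL (toConv g)⁻¹.ofConv x) = counit (R := k) x := by
  have h1 : ∀ h : A →ₐ[k] k, g (transL h x) = formMul h.toLinearMap g.toLinearMap x := fun h => by
    rw [transL_apply]
    show g (sliceL h.toLinearMap (comul (R := k) x)) = _
    simp only [formMul, LinearMap.comp_apply]
    generalize comul (R := k) x = t
    induction t using TensorProduct.induction_on with
    | zero => simp
    | add p q hp hq => simp only [map_add, hp, hq]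
    | tmul a b => simp
  rw [h1]
  exact congrArg (fun φ : WithConv (A →ₐ[k] k) => φ.ofConv x) (inv_mul_cancel (toConv g))

theorem map_aug_transL_le (g : A →ₐ[k] k) (n : ℕ) :
    (aug k A ^ n).map (transL (toConv g)⁻¹.ofConv) ≤ RingHom.ker g ^ n := by
  rw [Ideal.map_pow]
  refine Ideal.pow_right_mono (Ideal.map_le_iff_le_comap.2 fun x hx => ?_) n
  show g (transL (toConv g)⁻¹.ofConv x) = 0
  rw [apply_transL_inv]
  exact mem_aug.1 hx

theorem map_ker_transR_le (g : A →ₐ[k] k) (n : ℕ) :
    (RingHom.ker g ^ n).map (transR g) ≤ aug k A ^ n := by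
  rw [Ideal.map_pow]
  refine Ideal.pow_right_mono (Ideal.map_le_iff_le_comap.2 fun x hx => ?_) n
  show transR g x ∈ aug k A
  rw [mem_aug, counit_transR]
  exact hx

/-- Krull's intersection theorem at a point. -/
theorem exists_apply_ne_zero_mul_eq_zero [IsNoetherianRing A] (g : A →ₐ[k] k) {x : A}
    (hx : ∀ n : ℕ, x ∈ RingHom.ker g ^ n) : ∃ s : A, g s ≠ 0 ∧ s * x = 0 := by
  have hmem : x ∈ (⨅ i : ℕ, RingHom.ker g ^ i • ⊤ : Submodule A A) := by
    rw [Submodule.mem_iInf]
    intro i
    rw [smul_eq_mul, Ideal.mul_top]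
    exact hx i
  obtain ⟨⟨r, hr⟩, hrx⟩ := ((RingHom.ker g).mem_iInf_smul_pow_eq_bot_iff x).1 hmem
  refine ⟨1 - r, ?_, ?_⟩
  · rw [map_sub, map_one, show g r = 0 from hr, sub_zero]
    exact one_ne_zero
  · rw [sub_mul, one_mul, show r * x = x from hrx, sub_self]

/-- Maximal ideals are kernels of points. -/
theorem exists_point_of_isMaximal [IsAlgClosed k] [Algebra.FiniteType k A] (m : Ideal A) [hm : m.IsMaximal] :
    ∃ g : A →ₐ[k] k, RingHom.ker g = m := by
  letI : Field (A ⧸ m) := Ideal.Quotient.field m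
  haveI : Algebra.FiniteType k (A ⧸ m) :=
    Algebra.FiniteType.of_surjective (Ideal.Quotient.mkₐ k m) Ideal.Quotient.mk_surjective
  haveI : Module.Finite k (A ⧸ m) := finite_of_finite_type_of_isJacobsonRing k (A ⧸ m)
  have hb : Function.Bijective (algebraMap k (A ⧸ m)) :=
    IsAlgClosed.algebraMap_bijective_of_isIntegral (K := A ⧸ m)
  let e : k ≃ₐ[k] A ⧸ m := AlgEquiv.ofBijective (Algebra.ofId k _) hb
  refine ⟨e.symm.toAlgHom.comp (Ideal.Quotient.mkₐ k m), ?_⟩
  ext x
  simp [RingHom.mem_ker, Ideal.Quotient.eq_zero_iff_mem]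

variable {V : Type u} [AddCommGroup V] [Module k V] [Comod k A V]

theorem mem_fixedPts_of_cf {v : V} (h : ∀ f : V →ₗ[k] k, cf (A := A) f v = algebraMap k A (f v)) :
    v ∈ fixedPts k A V := by
  refine eq_of_forall_sliceL_eq fun f => ?_
  rw [sliceL_tmul, ← Algebra.algebraMap_eq_smul_one]
  exact h f

variable (k A V) in
/-- Vectors fixed to all orders at the origin. -/
def locus : Submodule k V where
  carrier := {v | ∀ (f : V →ₗ[k] k) (n : ℕ), cf (A := A) f v - algebraMap k A (f v) ∈ aug k A ^ n}
  add_mem' {a b} ha hb f n := by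
    rw [map_add, map_add, map_add, add_sub_add_comm]
    exact add_mem (ha f n) (hb f n)
  zero_mem' f n := by simp
  smul_mem' c v hv f n := by
    rw [map_smul, map_smul, smul_eq_mul, map_mul, ← Algebra.smul_def, ← smul_sub, Algebra.smul_def]
    exact Ideal.mul_mem_left _ _ (hv f n)

theorem sub_mem_ker_pow_of_mem_locus {v : V} (hv : v ∈ locus k A V) (g : A →ₐ[k] k) (f : V →ₗ[k] k) (n : ℕ) :
    cf (A := A) f v - algebraMap k A (f (Comod.act k A V g v)) ∈ RingHom.ker g ^ n := by
  let g' := (toConv g)⁻¹.ofConv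
  let f' : V →ₗ[k] k := f ∘ₗ hit g.toLinearMap
  have hf : f' ∘ₗ hit g'.toLinearMap = f := LinearMap.ext fun w => by
    show f (hit g.toLinearMap (hit g'.toLinearMap w)) = f w
    congr 1
    have := LinearMap.congr_fun ((actHom k A V).map_mul (toConv g) (toConv g)⁻¹) w
    rw [mul_inv_cancel, map_one] at this
    exact this.symm
  have h1 : transL g' (cf (A := A) f' v) = cf (A := A) f v := by
    rw [transL_apply]
    show sliceL g'.toLinearMap (comul (R := k) (cf (A := A) f' v)) = _
    rw [sliceL_comul_cf, hf]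
  have h2 := map_aug_transL_le g n (Ideal.mem_map_of_mem (transL g') (hv f' n))
  rw [map_sub, h1, AlgHom.commutes] at h2
  exact h2

theorem act_mem_locus {v : V} (hv : v ∈ locus k A V) (g : A →ₐ[k] k) :
    Comod.act k A V g v ∈ locus k A V := fun f n => by
  have h2 := map_ker_transR_le g n (Ideal.mem_map_of_mem (transR g) (sub_mem_ker_pow_of_mem_locus hv g f n))
  rw [map_sub, transR_apply, AlgHom.commutes] at h2
  rwa [show hitR g.toLinearMap (cf (A := A) f v) = cf (A := A) f (Comod.act k A V g v) from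
    sliceR_comul_cf g.toLinearMap f v] at h2

theorem exists_annihilator [IsNoetherianRing A] {v : V} (hv : v ∈ locus k A V) (g : A →ₐ[k] k) (f : V →ₗ[k] k) :
    ∃ s : A, g s ≠ 0 ∧ s * (cf (A := A) f v - algebraMap k A (f (Comod.act k A V g v))) = 0 :=
  exists_apply_ne_zero_mul_eq_zero g (sub_mem_ker_pow_of_mem_locus hv g f)


/-- With nilpotent Lie algebra some vector is fixed to all orders. -/
theorem locus_ne_bot (p : ℕ) [hp : Fact p.Prime] [CharP k p] [IsAlgClosed k] [Algebra.FiniteType k A] (hN : NilDer k A) [Module.Finite k V] [Nontrivial V] :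
    locus k A V ≠ ⊥ := by
  classical
  haveI : CharP A p := charP_alg (k := k)
  haveI : ExpChar k p := ExpChar.prime hp.out
  let F : ℕ → Submodule k V := fun r =>
    ⨅ f : V →ₗ[k] k, ((frobKer k A (p ^ r)).restrictScalars k).comap
      (cf (A := A) f - (Algebra.linearMap k A) ∘ₗ f)
  have hF : ∀ r v, v ∈ F r ↔ ∀ f : V →ₗ[k] k, cf (A := A) f v - algebraMap k A (f v) ∈ frobKer k A (p ^ r) :=
    fun r v => by simp [F]
  have hne : ∀ r, F r ≠ ⊥ := fun r => by
    haveI := isHopfIdeal_frobKer (k := k) (A := A) (p := p) r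
    let π : A →ₐc[k] A ⧸ frobKer k A (p ^ r) := Bialgebra.Quotient.mkBialgHom (R := k) _
    letI c' : Comod k (A ⧸ frobKer k A (p ^ r)) V := comodMap (π : A →ₗc[k] A ⧸ frobKer k A (p ^ r)) inferInstance
    have := isUnipotent_frobKer (p := p) hN r V inferInstance inferInstance
    rw [Submodule.ne_bot_iff] at this ⊢
    obtain ⟨v, hv, hv0⟩ := this
    refine ⟨v, (hF r v).2 fun f => ?_, hv0⟩
    rw [← Ideal.Quotient.eq]
    have h1 : LinearMap.lTensor V (π : A →ₗc[k] A ⧸ frobKer k A (p ^ r)).toLinearMap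
        (Comod.coact (k := k) (A := A) v) = v ⊗ₜ[k] 1 := hv
    have h2 := congrArg (sliceL f) h1
    rw [sliceL_lTensor, sliceL_tmul, ← Algebra.algebraMap_eq_smul_one] at h2
    exact h2
  have hanti : ∀ r, F (r + 1) ≤ F r := fun r v hv => (hF r v).2 fun f => by
    refine Ideal.span_le.2 ?_ ((hF (r + 1) v).1 hv f)
    rintro _ ⟨a, ha, rfl⟩
    show a ^ p ^ (r + 1) ∈ frobKer k A (p ^ r)
    rw [pow_succ, pow_mul]
    have h0 : a ^ p ^ r ∈ frobKer k A (p ^ r) := Ideal.subset_span (Set.mem_image_of_mem (fun a => a ^ p ^ r) ha)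
    exact Ideal.pow_mem_of_mem _ h0 p hp.out.pos
  obtain ⟨N, hN'⟩ := IsArtinian.monotone_stabilizes
    (⟨fun r => OrderDual.toDual (F r), monotone_nat_of_le_succ fun r => hanti r⟩ : ℕ →o (Submodule k V)ᵒᵈ)
  obtain ⟨v, hv, hv0⟩ := (Submodule.ne_bot_iff _).1 (hne N)
  refine (Submodule.ne_bot_iff _).2 ⟨v, fun f n => ?_, hv0⟩
  have hv' : v ∈ F (max N n) := by
    rw [show F (max N n) = F N from (congrArg OrderDual.ofDual (hN' _ (le_max_left N n))).symm]
    exact hv
  refine Ideal.pow_le_pow_right ?_ (frobKer_le _ ((hF _ v).1 hv' f))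
  exact (le_max_right N n).trans (Nat.lt_pow_self hp.out.one_lt).le

/-- Connected groups with nilpotent Lie algebra are unipotent. -/
theorem isUnipotent_of_nilDer_of_connected (p : ℕ) [hp : Fact p.Prime] [CharP k p] [IsAlgClosed k] [Algebra.FiniteType k A] (hN : NilDer k A)
    (hconn : ∀ e : A, IsIdempotentElem e → e = 0 ∨ e = 1) : IsUnipotent k A := by
  intro V _ _ _ _ _
  haveI := Algebra.FiniteType.isNoetherianRing k A
  obtain ⟨v, hv, hv0⟩ := (Submodule.ne_bot_iff _).1 (locus_ne_bot p (V := V) hN)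
  refine (Submodule.ne_bot_iff _).2 ⟨v, mem_fixedPts_of_cf fun f => ?_, hv0⟩
  set c := cf (A := A) f v
  let K : k → Ideal A := fun l => Ideal.torsionOf A A (c - algebraMap k A l)
  let K' : Ideal A := ⨆ l : {l : k // l ≠ f v}, K l
  have htop : K (f v) ⊔ K' = ⊤ := by
    by_contra hne
    obtain ⟨m, hm, hle⟩ := Ideal.exists_le_maximal _ hne
    obtain ⟨g, rfl⟩ := exists_point_of_isMaximal (k := k) m
    obtain ⟨s, hs, hsc⟩ := exists_annihilator hv g f
    have hsK : s ∈ K (f (Comod.act k A V g v)) := (Ideal.mem_torsionOf_iff _ _).2 hsc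
    refine hs (hle ?_)
    by_cases h : f (Comod.act k A V g v) = f v
    · exact Ideal.mem_sup_left (h ▸ hsK)
    · exact Ideal.mem_sup_right (le_iSup (fun l : {l : k // l ≠ f v} => K l) ⟨_, h⟩ hsK)
  obtain ⟨e, he, e', he', hee⟩ := Submodule.mem_sup.1 (htop.symm ▸ Submodule.mem_top : (1 : A) ∈ K (f v) ⊔ K')
  have he0 : e * (c - algebraMap k A (f v)) = 0 := (Ideal.mem_torsionOf_iff _ _).1 he
  have hprod : e * e' = 0 := by
    refine Submodule.iSup_induction (fun l : {l : k // l ≠ f v} => K l) (motive := fun x => e * x = 0) he' ?_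
      (mul_zero e) fun x y hx hy => by rw [mul_add, hx, hy, add_zero]
    intro l x hx
    have hx' : x * (c - algebraMap k A l) = 0 := (Ideal.mem_torsionOf_iff _ _).1 hx
    have hunit : IsUnit (algebraMap k A ((l : k) - f v)) := (isUnit_iff_ne_zero.2 (sub_ne_zero.2 l.2)).map _
    refine (hunit.mul_left_eq_zero).1 ?_
    rw [map_sub]
    linear_combination x * he0 - e * hx'
  have hid : IsIdempotentElem e := by
    show e * e = e
    linear_combination e * hee - hprod
  rcases hconn e hid with rfl | rfl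
  · exfalso
    have hle : K' ≤ aug k A := iSup_le fun l x hx => by
      have hx' := congrArg (counit (R := k) (A := A)) ((Ideal.mem_torsionOf_iff _ _).1 hx)
      rw [smul_eq_mul, Bialgebra.counit_mul, map_sub, Bialgebra.counit_algebraMap, map_zero, counit_cf] at hx'
      exact mem_aug.2 ((mul_eq_zero.1 hx').resolve_right (sub_ne_zero.2 l.2.symm))
    rw [zero_add] at hee
    subst hee
    simpa using mem_aug.1 (hle he')
  · rw [one_mul, sub_eq_zero] at he0
    exact he0

/-- Groups with nilpotent Lie algebra and unipotent points are unipotent. -/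
theorem isUnipotent_of_nilDer_of_points (p : ℕ) [hp : Fact p.Prime] [CharP k p] [IsAlgClosed k] [Algebra.FiniteType k A] (hN : NilDer k A)
    (hP : ∀ (V : Type u) [AddCommGroup V] [Module k V] [Comod k A V] [Module.Finite k V] (g : A →ₐ[k] k),
      IsNilpotent (Comod.act k A V g - 1)) : IsUnipotent k A := by
  intro V _ _ _ _ _
  haveI := Algebra.FiniteType.isNoetherianRing k A
  let W := locus k A V
  haveI : Nontrivial W := Submodule.nontrivial_iff_ne_bot.2 (locus_ne_bot p (V := V) hN)
  let T : WithConv (A →ₐ[k] k) →* Module.End k W :=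
    { toFun := fun g => (actHom k A V g).restrict (fun w hw => act_mem_locus hw g.ofConv)
      map_one' := LinearMap.ext fun w => Subtype.ext (by simp [_root_.map_one (actHom k A V)])
      map_mul' := fun g h => LinearMap.ext fun w => Subtype.ext (by
        simp [_root_.map_mul (actHom k A V)]) }
  have hT : ∀ g, IsNilpotent (T g - 1) := fun g => by
    obtain ⟨n, hn⟩ := hP V g.ofConv
    have key : ∀ (m : ℕ) (w : W), (((T g - 1) ^ m) w : V) = ((Comod.act k A V g.ofConv - 1) ^ m) (w : V) := by
      intro m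
      induction m with
      | zero => intro w; simp
      | succ m ih =>
        intro w
        rw [pow_succ, pow_succ, Module.End.mul_apply, Module.End.mul_apply, ih]
        rfl
    exact ⟨n, LinearMap.ext fun w => Subtype.ext (by rw [key, hn]; simp)⟩
  obtain ⟨w, hw0, hw⟩ := exists_fixed_of_unipotent_algClosed T hT
  refine (Submodule.ne_bot_iff _).2 ⟨(w : V), mem_fixedPts_of_cf fun f => ?_, fun h => hw0 (Subtype.ext h)⟩
  have htop : Ideal.torsionOf A A (cf (A := A) f (w : V) - algebraMap k A (f w)) = ⊤ := by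
    by_contra hne
    obtain ⟨m, hm, hle⟩ := Ideal.exists_le_maximal _ hne
    obtain ⟨g, rfl⟩ := exists_point_of_isMaximal (k := k) m
    obtain ⟨s, hs, hsc⟩ := exists_annihilator w.2 g f
    have hg : Comod.act k A V g (w : V) = w := congrArg Subtype.val (hw (toConv g))
    rw [hg] at hsc
    exact hs (hle ((Ideal.mem_torsionOf_iff _ _).2 hsc))
  have h1 := (Ideal.mem_torsionOf_iff _ _).1 ((Ideal.eq_top_iff_one _).1 htop)
  rwa [one_smul, sub_eq_zero] at h1

end Groth.Agent.CohDer1.NoMu
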