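import Groth.Agent.CohDer1.NoMu.Deriv
import Groth.Agent.CohDer1.PointedSplit.Split
import Groth.Agent.HopfQuot.Trigonalizable
import Groth.Agent.HopfQuot.CocommDiag
import Groth.Agent.HopfQuot.PointsSep
import Groth.Agent.HopfLib.Integral
import Groth.Agent.HopfLib.UnipotentPoints
import Groth.Agent.SGA3bLib.DiagQuot
import Mathlib.RingTheory.FiniteType
import Mathlib.GroupTheory.SpecificGroups.Cyclic
import Mathlib.RingTheory.SimpleModule.Basic

/-!
# Subgroups isomorphic to `μ_n`
-/

set_option autoImplicit false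

noncomputable section

open TensorProduct HopfRep WithConv
open Groth.Agent.HopfLib Groth.Agent.HopfQuot
open Coalgebra (comul counit)

universe u

namespace Groth.Agent.CohDer1.NoMu

variable {k : Type u} [Field k]

/-- A nontrivial finitely generated abelian group has a quotient of prime order. -/
theorem exists_surjective_zmod {M : Type u} [CommGroup M] [Group.FG M] [Nontrivial M] :
    ∃ (n : ℕ) (f : M →* Multiplicative (ZMod n)), n.Prime ∧ Function.Surjective f := by
  haveI : Module.Finite ℤ (Additive M) := Module.Finite.iff_addGroup_fg.2 inferInstance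
  obtain ⟨S, hS, -⟩ := (eq_top_or_exists_le_coatom (⊥ : Submodule ℤ (Additive M))).resolve_left bot_ne_top
  haveI : IsSimpleModule ℤ (Additive M ⧸ S) := isSimpleModule_iff_isCoatom.2 hS
  haveI : Nontrivial (Additive M ⧸ S) := IsSimpleModule.nontrivial ℤ _
  haveI : IsSimpleAddGroup (Additive M ⧸ S) := ⟨fun H _ => by
    rcases IsSimpleOrder.eq_bot_or_eq_top (AddSubgroup.toIntSubmodule H) with h | h
    · exact Or.inl (AddSubgroup.toIntSubmodule.injective (h.trans (map_bot _).symm))
    · exact Or.inr (AddSubgroup.toIntSubmodule.injective (h.trans (map_top _).symm))⟩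
  have hn : (Nat.card (Additive M ⧸ S)).Prime := AddCommGroup.is_simple_iff_prime_card.1 inferInstance
  haveI := Fact.mk hn
  let e := zmodAddCyclicAddEquiv (G := Additive M ⧸ S) (isAddCyclic_of_prime_card rfl)
  refine ⟨_, { toFun := fun m => Multiplicative.ofAdd (e.symm (S.mkQ (Additive.ofMul m)))
               map_one' := by simp
               map_mul' := fun a b => by
                 rw [ofMul_mul, map_add, map_add, ofAdd_add] }, hn, fun y => ?_⟩
  obtain ⟨a, ha⟩ := S.mkQ_surjective (e y.toAdd)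
  refine ⟨a.toMul, ?_⟩
  show Multiplicative.ofAdd (e.symm (S.mkQ (Additive.ofMul a.toMul))) = y
  rw [ofMul_toMul, ha, AddEquiv.symm_apply_apply, ofAdd_toAdd]

/-- A non-unipotent commutative group over an algebraically closed field contains some `μ_n`. -/
theorem exists_muN_of_cocomm [IsAlgClosed k] {Q : Type u} [CommRing Q] [HopfAlgebra k Q]
    [Algebra.FiniteType k Q] [Coalgebra.IsCocomm k Q] (hQ : ¬ IsUnipotent k Q) :
    ∃ (n : ℕ) (φ : Q →ₐc[k] MonoidAlgebra k (Multiplicative (ZMod n))), n.Prime ∧ Function.Surjective φ := by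
  obtain ⟨B, _, _, ψ, J, hJH, hψ, hB, hJ, hU⟩ := isTrigonalizable_imp (isTrigonalizable_of_isCocomm (k := k) (A := Q))
  obtain ⟨M, _, ⟨e⟩⟩ := SGA3bLib.isDiag_of_span_groupLike (C := B) hB
  let φ : MonoidAlgebra k M →ₐc[k] Q := ψ.comp (e.symm : MonoidAlgebra k M →ₐc[k] B)
  have hφ : Function.Injective φ := hψ.comp e.symm.injective
  have hJ' : J = Ideal.map (φ : MonoidAlgebra k M →+* Q)
      (RingHom.ker (Bialgebra.counitAlgHom k (MonoidAlgebra k M))) := by
    rw [hJ]
    have hker : RingHom.ker (Bialgebra.counitAlgHom k B) =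
        Ideal.map ((e.symm : MonoidAlgebra k M →ₐc[k] B) : MonoidAlgebra k M →+* B)
          (RingHom.ker (Bialgebra.counitAlgHom k (MonoidAlgebra k M))) := by
      refine le_antisymm (fun b hb => ?_) (Ideal.map_le_iff_le_comap.2 fun x hx => ?_)
      · obtain ⟨x, rfl⟩ := e.symm.surjective b
        refine Ideal.mem_map_of_mem _ ?_
        exact (CoalgHomClass.counit_comp_apply (e.symm : MonoidAlgebra k M →ₐc[k] B) x).symm.trans hb
      · exact (CoalgHomClass.counit_comp_apply (e.symm : MonoidAlgebra k M →ₐc[k] B) x).trans hx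
    rw [hker, Ideal.map_map]
    rfl
  obtain ⟨r, hr⟩ := PointedSplit.exists_retraction φ hφ J hJ' hU
  have hr' : Function.Surjective r := fun d => ⟨φ d, DFunLike.congr_fun hr d⟩
  haveI : Algebra.FiniteType k (MonoidAlgebra k M) :=
    Algebra.FiniteType.of_surjective (r : Q →ₐ[k] MonoidAlgebra k M) hr'
  haveI : Group.FG M := MonoidAlgebra.finiteType_iff_group_fg.1 ‹_›
  rcases subsingleton_or_nontrivial M with hM | hM
  · refine absurd ?_ hQ
    have hscalar : ∀ x : MonoidAlgebra k M, counit (R := k) x = 0 → x = 0 := fun x hx => by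
      have hx' : x = MonoidAlgebra.single 1 (counit (R := k) x) := by
        clear hx
        induction x using MonoidAlgebra.induction_linear with
        | zero => simp
        | add a b ha hb => rw [map_add, MonoidAlgebra.single_add, ← ha, ← hb]
        | single m c => simp [Subsingleton.elim m 1]
      rw [hx', hx, MonoidAlgebra.single_zero]
    have hJ0 : ∀ x ∈ J, x = 0 := by
      intro x hx
      rw [hJ'] at hx
      refine (Submodule.mem_bot (R := Q)).1 ((Ideal.map_le_iff_le_comap (K := (⊥ : Ideal Q))).2 (fun y hy => ?_) hx)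
      show φ y = 0
      rw [hscalar y hy, map_zero]
    haveI := hJH
    let π : Q →ₐc[k] Q ⧸ J := Bialgebra.Quotient.mkBialgHom (R := k) J
    have hπ : Function.Bijective π :=
      ⟨(injective_iff_map_eq_zero _).2 fun x hx => hJ0 x (Ideal.Quotient.eq_zero_iff_mem.1 hx),
        Ideal.Quotient.mk_surjective⟩
    exact isUnipotent_of_surjective ((BialgEquiv.ofBijective π hπ).symm : Q ⧸ J →ₐc[k] Q)
      (BialgEquiv.ofBijective π hπ).symm.surjective hU
  · obtain ⟨n, f, hn, hf⟩ := exists_surjective_zmod (M := M)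
    refine ⟨n, (MonoidAlgebra.mapDomainBialgHom k f).comp r, hn, ?_⟩
    refine Function.Surjective.comp (g := MonoidAlgebra.mapDomainBialgHom k f) (fun y => ?_) hr'
    induction y using MonoidAlgebra.induction_linear with
    | zero => exact ⟨0, map_zero _⟩
    | add a b ha hb =>
      obtain ⟨a', rfl⟩ := ha
      obtain ⟨b', rfl⟩ := hb
      exact ⟨a' + b', map_add _ _ _⟩
    | single m c =>
      obtain ⟨m', rfl⟩ := hf m
      exact ⟨MonoidAlgebra.single m' c, MonoidAlgebra.mapDomainBialgHom_single f m' c⟩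

/-- A unipotent group contains no `μ_n`. -/
theorem not_surjective_of_isUnipotent {A : Type u} [CommRing A] [Bialgebra k A] (hU : IsUnipotent k A)
    {n : ℕ} (hn : n.Prime) (φ : A →ₐc[k] MonoidAlgebra k (Multiplicative (ZMod n))) :
    ¬ Function.Surjective φ := fun hφ => by
  haveI := Fact.mk hn
  have h := PointedSplit.groupLike_eq_one_of_isUnipotent (isUnipotent_of_surjective φ hφ hU)
    (MonoidAlgebra.isGroupLikeElem_single_one (R := k) (Multiplicative.ofAdd (1 : ZMod n)))
  rw [MonoidAlgebra.one_def] at h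
  have h1 : Multiplicative.ofAdd (1 : ZMod n) = 1 := MonoidAlgebra.single_left_injective (one_ne_zero (α := k)) h
  exact one_ne_zero (α := ZMod n) (by simpa using h1)

variable {A : Type u} [CommRing A] [HopfAlgebra k A]

/-- Without `μ_n` all points act unipotently. -/
theorem isNilpotent_act_of_no_mu [IsAlgClosed k] [Algebra.FiniteType k A]
    (h : ∀ n : ℕ, n.Prime → ¬ ∃ φ : A →ₐc[k] MonoidAlgebra k (Multiplicative (ZMod n)), Function.Surjective φ)
    {V : Type u} [AddCommGroup V] [Module k V] [Comod k A V] [Module.Finite k V] (g : A →ₐ[k] k) :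
    IsNilpotent (Comod.act k A V g - 1) := by
  classical
  let S : Subgroup (WithConv (A →ₐ[k] k)) := Subgroup.zpowers (toConv g)
  let I : Ideal A := ⨅ g ∈ S, RingHom.ker (ofConv g : A →ₐ[k] k)
  haveI : I.IsHopfIdeal k := isHopfIdeal_iInf_ker S
  let π : A →ₐc[k] A ⧸ I := Bialgebra.Quotient.mkBialgHom (R := k) I
  have hI : ∀ h ∈ S, ∀ x ∈ I, (ofConv h : A →ₐ[k] k) x = 0 := fun h hh x hx => by
    simp only [I, Submodule.mem_iInf] at hx
    exact hx h hh
  haveI : Algebra.FiniteType k (A ⧸ I) :=
    Algebra.FiniteType.of_surjective (Ideal.Quotient.mkₐ k I) Ideal.Quotient.mk_surjective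
  let P : Set (A ⧸ I →ₗ[k] k) := {f | ∃ g ∈ S, ∀ a : A, f (Ideal.Quotient.mk I a) = g.ofConv a}
  have hP : ∀ v : A ⧸ I, (∀ f ∈ P, f v = 0) → v = 0 := by
    intro v hv
    obtain ⟨a, rfl⟩ := Ideal.Quotient.mk_surjective v
    refine Ideal.Quotient.eq_zero_iff_mem.2 ?_
    simp only [I, Submodule.mem_iInf]
    intro g hg
    exact hv (Ideal.Quotient.liftₐ I g.ofConv fun y hy => hI g hg y hy).toLinearMap ⟨g, hg, fun _ => rfl⟩
  haveI : Coalgebra.IsCocomm k (A ⧸ I) := ⟨LinearMap.ext fun q => by
    obtain ⟨a, rfl⟩ := Ideal.Quotient.mk_surjective q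
    refine sub_eq_zero.1 (eq_zero_of_forall_pair (P := P) (Q := P) hP hP ?_)
    rintro f ⟨h₁, hh₁, hf⟩ f' ⟨h₂, hh₂, hf'⟩
    have key : ∀ (f f' : A ⧸ I →ₗ[k] k) (h₁ h₂ : WithConv (A →ₐ[k] k)),
        (∀ b, f (Ideal.Quotient.mk I b) = h₁.ofConv b) → (∀ b, f' (Ideal.Quotient.mk I b) = h₂.ofConv b) →
        LinearMap.mul' k k (TensorProduct.map f f' (comul (R := k) (π a))) = (h₁ * h₂).ofConv a := by
      intro f f' h₁ h₂ hf hf'
      rw [AlgHom.convMul_apply, ← CoalgHomClass.map_comp_comul_apply π a]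
      generalize comul (R := k) a = t
      induction t using TensorProduct.induction_on with
      | zero => simp
      | add p q hp hq => simp only [map_add, hp, hq]
      | tmul p q =>
        simp only [TensorProduct.map_tmul, LinearMap.mul'_apply, Algebra.TensorProduct.lift_tmul]
        exact congrArg₂ (· * ·) (hf p) (hf' q)
    have e : ∀ t : (A ⧸ I) ⊗[k] (A ⧸ I), LinearMap.mul' k k (TensorProduct.map f f' (TensorProduct.comm k _ _ t)) =
        LinearMap.mul' k k (TensorProduct.map f' f t) := fun t => by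
      induction t using TensorProduct.induction_on with
      | zero => simp
      | add p q hp hq => simp only [map_add, hp, hq]
      | tmul p q => simp [mul_comm]
    rw [map_sub, map_sub, sub_eq_zero]
    show LinearMap.mul' k k (TensorProduct.map f f' (TensorProduct.comm k _ _ (comul (R := k) (π a)))) =
      LinearMap.mul' k k (TensorProduct.map f f' (comul (R := k) (π a)))
    rw [e, key f' f h₂ h₁ hf' hf, key f f' h₁ h₂ hf hf']
    obtain ⟨i, rfl⟩ := Subgroup.mem_zpowers_iff.1 hh₁
    obtain ⟨j, rfl⟩ := Subgroup.mem_zpowers_iff.1 hh₂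
    rw [← zpow_add, ← zpow_add, add_comm]⟩
  have hU : IsUnipotent k (A ⧸ I) := by
    by_contra hne
    obtain ⟨n, φ, hn, hφ⟩ := exists_muN_of_cocomm hne
    exact h n hn ⟨φ.comp π, hφ.comp Ideal.Quotient.mk_surjective⟩
  let g' : A ⧸ I →ₐ[k] k := Ideal.Quotient.liftₐ I g (hI (toConv g) (Subgroup.mem_zpowers _))
  let c : Comod k A V := inferInstance
  letI c' : Comod k (A ⧸ I) V := comodMap (π : A →ₗc[k] A ⧸ I) c
  have hact : @Comod.act k (A ⧸ I) _ _ _ V _ _ c' g' = @Comod.act k A _ _ _ V _ _ c g := LinearMap.ext fun v => by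
    rw [act_apply, act_apply]
    exact hit_comodMap (π : A →ₗc[k] A ⧸ I) (c := c) g'.toLinearMap v
  rw [← hact]
  exact isNilpotent_act_sub_one hU g'

end Groth.Agent.CohDer1.NoMu
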